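import Cfsg.Agent.Lib.M11Uniq.Fixed

/-!
Simple groups of order 7920: the graph on the 55 Sylow subgroups for three given by the inverting involutions.
-/

set_option linter.unusedSectionVars false
set_option linter.style.haveILetI false
set_option linter.unusedFintypeInType false

namespace Cfsg.Agent.M11Uniq

open Cfsg Cfsg.Agent.M11Local
open scoped Pointwise Classical

universe u

variable {G : Type u} [Group G]

/-- Two subgroups are joined when some involution inverts both. -/
def adjGraph (G : Type u) [Group G] : SimpleGraph (Sylow 3 G) where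
  Adj v w := v ≠ w ∧ ∃ t, Inv v t ∧ Inv w t
  symm := ⟨fun _ _ h => ⟨h.1.symm, h.2.imp fun _ ht => ⟨ht.2, ht.1⟩⟩⟩
  loopless := ⟨fun _ h => h.1 rfl⟩

theorem adj_smul {v w : Sylow 3 G} (h : (adjGraph G).Adj v w) (g : G) : (adjGraph G).Adj (g • v) (g • w) :=
  ⟨fun e => h.1 (MulAction.injective g e), h.2.elim fun t ht => ⟨g * t * g⁻¹, ht.1.smul g, ht.2.smul g⟩⟩

theorem adj_smul_iff {v w : Sylow 3 G} (g : G) : (adjGraph G).Adj (g • v) (g • w) ↔ (adjGraph G).Adj v w :=
  ⟨fun h => by simpa using adj_smul h g⁻¹, fun h => adj_smul h g⟩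

/-- An element of prime order keeping a finite set of suitable size under conjugation commutes with a member. -/
theorem exists_commuting {S : Finset G} {g : G} {p : ℕ} [Fact p.Prime] (hg : g ^ p = 1)
    (hS : ∀ s ∈ S, g * s * g⁻¹ ∈ S) (hp : ¬ p ∣ S.card) : ∃ s ∈ S, g * s = s * g := by
  let f : S → S := fun s => ⟨g * (s : G) * g⁻¹, hS s s.2⟩
  have hf : Function.Injective f := fun a b h => Subtype.ext (by simpa [f] using congrArg Subtype.val h)
  let σ : Equiv.Perm S := Equiv.ofBijective f (Finite.injective_iff_bijective.1 hf)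
  have hσ : ∀ (n : ℕ) (s : S), (((σ ^ n) s : S) : G) = g ^ n * s * (g ^ n)⁻¹ := by
    intro n
    induction n with
    | zero => intro s; simp
    | succ n ih =>
      intro s
      rw [pow_succ', Equiv.Perm.mul_apply]
      show g * (((σ ^ n) s : S) : G) * g⁻¹ = _
      rw [ih, pow_succ']
      group
  obtain ⟨s, hs⟩ := Equiv.Perm.exists_fixed_point_of_prime (p := p) (n := 1) (α := S)
    (by rwa [Fintype.card_coe]) (σ := σ) (Equiv.ext fun s => Subtype.ext (by
      rw [pow_one, hσ, hg]; simp))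
  refine ⟨s, s.2, mul_inv_eq_iff_eq_mul.1 ?_⟩
  exact congrArg Subtype.val hs

variable [Fintype G] [IsSimpleGroup G] (hG : Nat.card G = 7920)

variable {v w : Sylow 3 G}

include hG

theorem inv_two_eq (hvw : v ≠ w) {a b : G} (hav : Inv v a) (hbv : Inv v b) (haw : Inv w a) (hbw : Inv w b) :
    a = b := by
  have h := ti hG hvw (inv_mul_mem hG hav hbv) (inv_mul_mem hG haw hbw)
  rw [eq_inv_of_mul_eq_one_left h, inv_of_orderOf_two hbv.1]

theorem card_normalizer_inv {t : G} (ht : Inv v t) :
    Nat.card ↥(Subgroup.normalizer ((v : Subgroup G) : Set G) ⊓ Subgroup.centralizer ({t} : Set G)) = 16 := by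
  set N := Subgroup.normalizer ((v : Subgroup G) : Set G)
  set C := N ⊓ Subgroup.centralizer ({t} : Set G)
  let f : ↥(v : Subgroup G) × ↥C → ↥N := fun q =>
    ⟨(q.1 : G) * (q.2 : G), mul_mem (Subgroup.le_normalizer q.1.2) q.2.2.1⟩
  have hf : Function.Bijective f := by
    constructor
    · rintro ⟨p, c⟩ ⟨p', c'⟩ h
      have h' : (p : G) * c = p' * c' := congrArg Subtype.val h
      have hm : (p' : G)⁻¹ * p = c' * (c : G)⁻¹ := by
        rw [inv_mul_eq_iff_eq_mul, ← mul_assoc, eq_mul_inv_iff_mul_eq]; exact h'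
      have hp : (p' : G)⁻¹ * p ∈ (v : Subgroup G) := mul_mem (inv_mem p'.2) p.2
      have hc : (p' : G)⁻¹ * p * t = t * ((p' : G)⁻¹ * p) := by
        rw [hm]; exact Subgroup.mem_centralizer_singleton_iff.1 (mul_mem c'.2.2 (inv_mem c.2.2))
      have e := ht.2 _ hp
      rw [← hc, mul_inv_cancel_right] at e
      have h3 := inv_mul_eq_one.1 (eq_one_of_self_inverse hG hp e)
      rw [h3, mul_right_inj] at h'
      exact Prod.ext (Subtype.ext h3.symm) (Subtype.ext h')
    · rintro ⟨n, hn⟩
      have hfix : n • v = v := Sylow.smul_eq_iff_mem_normalizer.2 hn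
      have h := ht.smul n
      rw [hfix] at h
      obtain ⟨p, hp, hpt⟩ := inv_conj hG ht h
      refine ⟨⟨⟨p, hp⟩, ⟨p⁻¹ * n, N.mul_mem (N.inv_mem (Subgroup.le_normalizer hp)) hn,
        Subgroup.mem_centralizer_singleton_iff.2 ?_⟩⟩, Subtype.ext (mul_inv_cancel_left p n)⟩
      calc p⁻¹ * n * t = p⁻¹ * (n * t * n⁻¹) * n := by group
        _ = t * (p⁻¹ * n) := by rw [← hpt]; group
  have h := Nat.card_eq_of_bijective f hf
  rw [Nat.card_prod, card_P hG, card_normalizer hG] at h
  omega

/-- The centraliser of an involution is transitive on the three subgroups it inverts. -/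
theorem exists_centralizing {t : G} {x : Sylow 3 G} (hv : Inv v t) (hx : Inv x t) :
    ∃ c, c * t = t * c ∧ c • v = x := by
  set C := Subgroup.centralizer ({t} : Set G)
  have hstab : Nat.card (MulAction.stabilizer C v) = 16 := by
    rw [← card_normalizer_inv hG hv, ← Nat.card_congr (Subgroup.subgroupOfEquivOfLe
      (inf_le_right : Subgroup.normalizer ((v : Subgroup G) : Set G) ⊓ C ≤ C)).toEquiv]
    refine Nat.card_congr (Equiv.subtypeEquivRight fun g => ?_)
    rw [MulAction.mem_stabilizer_iff, Subgroup.mem_subgroupOf, Subgroup.mem_inf]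
    exact ⟨fun h => ⟨Sylow.smul_eq_iff_mem_normalizer.1 h, g.2⟩, fun h => Sylow.smul_eq_iff_mem_normalizer.2 h.1⟩
  have h := MulAction.card_orbit_mul_card_stabilizer_eq_card_group C v
  rw [← Nat.card_eq_fintype_card, ← Nat.card_eq_fintype_card, ← Nat.card_eq_fintype_card, hstab,
    card_centralizer_involution hG hv.1] at h
  have horb : (MulAction.orbit C v).toFinset = invPts t := by
    refine Finset.eq_of_subset_of_card_le (fun y hy => ?_) ?_
    · obtain ⟨c, rfl⟩ := Set.mem_toFinset.1 hy
      refine mem_invPts.2 ?_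
      show Inv ((c : G) • v) t
      have hs := hv.smul (c : G)
      rwa [Subgroup.mem_centralizer_singleton_iff.1 c.2, mul_inv_cancel_right] at hs
    · rw [card_invPts hG hv.1, ← Set.ncard_eq_toFinset_card', ← Nat.card_coe_set_eq]
      omega
  have hxo : x ∈ (MulAction.orbit C v).toFinset := horb ▸ mem_invPts.2 hx
  obtain ⟨c, hc⟩ := Set.mem_toFinset.1 hxo
  exact ⟨c, Subgroup.mem_centralizer_singleton_iff.1 c.2, hc⟩

/-- At most four involutions fix a point, do not invert it and commute with a given inverting one. -/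
theorem card_commuting_le {z : G} (hz : Inv v z) :
    (Finset.univ.filter fun s : G => orderOf s = 2 ∧ s • v = v ∧ ¬ Inv v s ∧ s * z = z * s).card ≤ 4 := by
  set A := Finset.univ.filter fun t : G => orderOf t = 2 ∧ t • v = v ∧ ¬ Inv v t with hA
  set B := Finset.univ.filter fun t : G => Inv v t with hB
  set c := (Finset.univ.filter fun s : G => orderOf s = 2 ∧ s • v = v ∧ ¬ Inv v s ∧ s * z = z * s).card
  have hBc : B.card = 9 := by
    rw [hB, ← Fintype.card_subtype, ← Nat.card_eq_fintype_card, card_inv hG]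
  have h := Finset.card_mul_le_card_mul (fun z' s => s * z' = z' * s) (s := B) (t := A) (m := c) (n := 3)
    (fun z' hz' => ?_) fun s hs => ?_
  · have := card_ctr_le hG (v := v)
    rw [← hA] at this
    rw [hBc] at h
    omega
  · simp only [hB, Finset.mem_filter, Finset.mem_univ, true_and] at hz'
    obtain ⟨p, hp, rfl⟩ := inv_conj hG hz hz'
    have hpv := fix_of_mem hG hp
    refine Finset.card_le_card_of_injOn (MulAut.conj p) (fun s hs => ?_) (MulAut.conj p).injective.injOn
    simp only [Finset.coe_filter, Finset.mem_univ, true_and, Set.mem_ofPred_eq, MulAut.conj_apply,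
      Finset.bipartiteAbove, hA, Finset.mem_filter] at hs ⊢
    obtain ⟨ho, hf, hn, hc⟩ := hs
    refine ⟨⟨(orderOf_conj p s).trans ho, ?_, fun h => hn ?_⟩, ?_⟩
    · calc (p * s * p⁻¹) • v = p • s • p⁻¹ • v := by rw [mul_smul, mul_smul]
        _ = v := by rw [inv_smul_eq_iff.2 hpv.symm, hf, hpv]
    · have h' := h.smul p⁻¹
      rwa [inv_smul_eq_iff.2 hpv.symm, show p⁻¹ * (p * s * p⁻¹) * p⁻¹⁻¹ = s by group] at h'
    · calc p * s * p⁻¹ * (p * z * p⁻¹) = p * (s * z) * p⁻¹ := by group
        _ = p * z * p⁻¹ * (p * s * p⁻¹) := by rw [hc]; group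
  · simp only [hA, Finset.mem_filter, Finset.mem_univ, true_and] at hs
    obtain ⟨ho, hf, hn⟩ := hs
    rcases (Finset.bipartiteBelow (fun z' s => s * z' = z' * s) B s).eq_empty_or_nonempty with h0 | ⟨z₀, hz₀⟩
    · simp [h0]
    simp only [Finset.bipartiteBelow, hB, Finset.mem_filter, Finset.mem_univ, true_and] at hz₀
    obtain ⟨hz₀, hc₀⟩ := hz₀
    set F := (v : Subgroup G) ⊓ Subgroup.centralizer ({s} : Set G)
    have hF : Nat.card F ≤ 3 := by
      have hd : Nat.card F ∣ 9 := card_P hG (P := v) ▸ Subgroup.card_dvd_of_le inf_le_left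
      have hne : Nat.card F ≠ 9 := fun h9 => by
        have he : F = (v : Subgroup G) := Subgroup.eq_of_le_of_card_ge inf_le_left (by rw [card_P hG, h9])
        refine orderOf_two_notMem hG ho (mem_of_centralizes hG (v := v) fun x hx => ?_)
        rw [← Subgroup.mem_centralizer_singleton_iff.1 (he.symm ▸ hx : x ∈ F).2, mul_inv_cancel_right]
      have := Nat.le_of_dvd (by norm_num) hd
      interval_cases Nat.card F <;> omega
    refine le_trans ?_ hF
    rw [← Finset.card_image_of_injective _ (mul_right_injective z₀), Nat.card_eq_fintype_card, Fintype.card_subtype]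
    refine Finset.card_le_card fun p hp => ?_
    simp only [Finset.mem_image, Finset.bipartiteBelow, hB, Finset.mem_filter, Finset.mem_univ, true_and] at hp ⊢
    obtain ⟨z', ⟨hz', hc'⟩, rfl⟩ := hp
    refine ⟨inv_mul_mem hG hz₀ hz', Subgroup.mem_centralizer_singleton_iff.2 ?_⟩
    exact ((show Commute s z₀ from hc₀).mul_right hc').symm.eq

/-- An involution commuting with another and fixing the three points it inverts is equal to it. -/
theorem eq_of_fix_all {z s : G} (hz : orderOf z = 2) (hs : orderOf s = 2) (hc : s * z = z * s)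
    (hfix : ∀ x ∈ invPts z, s • x = x) : s = z := by
  by_contra hne
  haveI : Fact (Nat.Prime 3) := ⟨by norm_num⟩
  haveI : Fact (Nat.Prime 2) := ⟨Nat.prime_two⟩
  set S := Finset.univ.filter fun s : G => orderOf s = 2 ∧ s * z = z * s ∧ (∀ x ∈ invPts z, s • x = x) ∧ s ≠ z
    with hSdef
  have hsS : s ∈ S := by simp [hSdef, hs, hc, hne]; exact hfix
  obtain ⟨v, hv⟩ := Finset.card_pos.1 (show 0 < (invPts z).card by rw [card_invPts hG hz]; norm_num)
  have hzv := mem_invPts.1 hv
  have hle : S.card ≤ 4 := by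
    refine (Finset.card_le_card fun u hu => ?_).trans (card_commuting_le hG hzv)
    simp only [hSdef, Finset.mem_filter, Finset.mem_univ, true_and] at hu ⊢
    exact ⟨hu.1, hu.2.2.1 v hv, fun h => hu.2.2.2 (inv_comm_eq hG h hzv hu.2.1), hu.2.1⟩
  have heven : 2 ∣ S.card := by
    have hzz := mul_self_of_orderOf_two hz
    have hmap : ∀ u ∈ S, u * z ∈ S := by
      intro u hu
      simp only [hSdef, Finset.mem_filter, Finset.mem_univ, true_and] at hu ⊢
      obtain ⟨ho, hcu, hfu, hnu⟩ := hu
      refine ⟨orderOf_two_of ?_ fun h => hnu ?_, by rw [mul_assoc u z z, hzz, mul_one, ← mul_assoc z, ← hcu,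
        mul_assoc u z z, hzz, mul_one], fun x hx => ?_, fun h => ?_⟩
      · rw [show u * z * (u * z) = u * (z * u) * z by group, ← hcu, ← mul_assoc, mul_self_of_orderOf_two ho, one_mul,
          hzz]
      · rw [eq_inv_of_mul_eq_one_left h, inv_of_orderOf_two hz]
      · rw [mul_smul, (mem_invPts.1 hx).fix, hfu x hx]
      · exact ne_one_of_orderOf ho (by norm_num) (mul_eq_right.1 h)
    let σ : Equiv.Perm S :=
      { toFun := fun u => ⟨(u : G) * z, hmap u u.2⟩
        invFun := fun u => ⟨(u : G) * z, hmap u u.2⟩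
        left_inv := fun u => Subtype.ext (by show (u : G) * z * z = u; rw [mul_assoc, hzz, mul_one])
        right_inv := fun u => Subtype.ext (by show (u : G) * z * z = u; rw [mul_assoc, hzz, mul_one]) }
    by_contra h2
    obtain ⟨u, hu⟩ := Equiv.Perm.exists_fixed_point_of_prime (p := 2) (n := 1) (α := S)
      (by rwa [Fintype.card_coe]) (σ := σ) (Equiv.ext fun u => by
        rw [pow_one, pow_two, Equiv.Perm.mul_apply]
        exact σ.left_inv u)
    exact ne_one_of_orderOf hz (by norm_num) (mul_eq_left.1 (congrArg Subtype.val hu))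
  obtain ⟨y, hy⟩ := exists_prime_orderOf_dvd_card' 3 (show 3 ∣ Nat.card (Subgroup.centralizer ({z} : Set G)) by
    rw [card_centralizer_involution hG hz]; norm_num)
  rw [← Subgroup.orderOf_coe] at hy
  have hyz : (y : G) * z = z * y := Subgroup.mem_centralizer_singleton_iff.1 y.2
  have hconj : ∀ u ∈ S, (y : G) * u * (y : G)⁻¹ ∈ S := by
    intro u hu
    simp only [hSdef, Finset.mem_filter, Finset.mem_univ, true_and] at hu ⊢
    obtain ⟨ho, hcu, hfu, hnu⟩ := hu
    have hzy : (y : G) * z * (y : G)⁻¹ = z := by rw [hyz, mul_inv_cancel_right]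
    refine ⟨(orderOf_conj _ _).trans ho, ?_, fun x hx => ?_, fun h => hnu ?_⟩
    · calc (y : G) * u * (y : G)⁻¹ * z = (y : G) * u * (y : G)⁻¹ * ((y : G) * z * (y : G)⁻¹) := by rw [hzy]
        _ = (y : G) * (u * z) * (y : G)⁻¹ := by group
        _ = ((y : G) * z * (y : G)⁻¹) * ((y : G) * u * (y : G)⁻¹) := by rw [hcu]; group
        _ = z * ((y : G) * u * (y : G)⁻¹) := by rw [hzy]
    · have hx' : (y : G)⁻¹ • x ∈ invPts z := by
        have h := (mem_invPts.1 hx).smul (y : G)⁻¹
        rw [show (y : G)⁻¹ * z * (y : G)⁻¹⁻¹ = z by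
          rw [inv_inv, mul_assoc, ← hyz, inv_mul_cancel_left]] at h
        exact mem_invPts.2 h
      rw [mul_smul, mul_smul, hfu _ hx', smul_inv_smul]
    · exact mul_left_cancel (mul_right_cancel (h.trans hzy.symm))
  obtain ⟨u, hu, hcom⟩ := exists_commuting (p := 3) (show (y : G) ^ 3 = 1 by rw [← hy, pow_orderOf_eq_one]) hconj
    (by have := Finset.card_pos.2 ⟨s, hsS⟩; omega)
  simp only [hSdef, Finset.mem_filter, Finset.mem_univ, true_and] at hu
  exact no_four hG hy hu.1 hz hu.2.2.2 hcom hyz hu.2.1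

/-- Some involution fixing a point and not inverting it commutes with a given inverting one. -/
theorem exists_ctr_commuting {z : G} (hz : Inv v z) :
    ∃ s, orderOf s = 2 ∧ s • v = v ∧ s * z = z * s ∧ s ≠ z := by
  haveI : Fact (Nat.Prime 3) := ⟨by norm_num⟩
  haveI : Fact (Nat.Prime 2) := ⟨Nat.prime_two⟩
  obtain ⟨a, ha⟩ := exists_prime_orderOf_dvd_card' 3 (show 3 ∣ Nat.card (v : Subgroup G) by rw [card_P hG]; norm_num)
  rw [← Subgroup.orderOf_coe] at ha
  have ha1 := ne_one_of_orderOf ha (by norm_num)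
  obtain ⟨t, ht⟩ := exists_prime_orderOf_dvd_card' 2 (show 2 ∣ Nat.card
      ↥(Subgroup.normalizer ((v : Subgroup G) : Set G) ⊓ Subgroup.centralizer ({(a : G)} : Set G)) by
    rw [(point_facts hG a.2 ha1).1]; norm_num)
  rw [← Subgroup.orderOf_coe] at ht
  have htv : (t : G) • v = v := Sylow.smul_eq_iff_mem_normalizer.2 t.2.1
  have htn : ¬ Inv v (t : G) := fun h => ha1 (eq_one_of_self_inverse hG a.2 (by
    have e := h.2 _ a.2
    rwa [Subgroup.mem_centralizer_singleton_iff.1 t.2.2, mul_inv_cancel_right] at e))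
  set B := Finset.univ.filter fun t : G => Inv v t with hB
  obtain ⟨z', hz', hc⟩ := exists_commuting (S := B) (g := (t : G)) (p := 2) (by rw [← ht, pow_orderOf_eq_one])
    (fun s hs => by
      simp only [hB, Finset.mem_filter, Finset.mem_univ, true_and] at hs ⊢
      have := hs.smul (t : G)
      rwa [htv] at this)
    (by rw [hB, ← Fintype.card_subtype, ← Nat.card_eq_fintype_card, card_inv hG]; norm_num)
  simp only [hB, Finset.mem_filter, Finset.mem_univ, true_and] at hz'
  obtain ⟨p, hp, rfl⟩ := inv_conj hG hz hz'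
  have hpv := fix_of_mem hG hp
  refine ⟨p⁻¹ * (t : G) * p, ?_, ?_, ?_, fun h => htn ?_⟩
  · have := orderOf_conj p⁻¹ (t : G)
    rw [inv_inv] at this
    exact this.trans ht
  · rw [mul_smul, mul_smul, hpv, htv, inv_smul_eq_iff, hpv]
  · calc p⁻¹ * (t : G) * p * z = p⁻¹ * ((t : G) * (p * z * p⁻¹)) * p := by group
      _ = z * (p⁻¹ * (t : G) * p) := by rw [hc]; group
  · have := hz.smul p
    rw [hpv] at this
    rwa [show (t : G) = p * z * p⁻¹ by rw [← h]; group]

/-- The stabiliser of a point is transitive on its neighbours. -/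
theorem exists_move_adj {x u : Sylow 3 G} (hx : (adjGraph G).Adj v x) (hu : (adjGraph G).Adj v u) :
    ∃ g : G, g • v = v ∧ g • x = u := by
  obtain ⟨hvx, z, hzv, hzx⟩ := hx
  obtain ⟨hvu, z', hz'v, hz'u⟩ := hu
  obtain ⟨p, hp, hpz⟩ := inv_conj hG hzv hz'v
  have hpv := fix_of_mem hG hp
  have hx' : Inv (p • x) z' := hpz ▸ hzx.smul p
  by_cases hxu : p • x = u
  · exact ⟨p, hpv, hxu⟩
  obtain ⟨s, hs, hsv, hc, hne⟩ := exists_ctr_commuting hG hz'v
  have hss := mul_self_of_orderOf_two hs
  have hmem : ∀ y ∈ invPts z', s • y ∈ invPts z' := fun y hy => by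
    have h := (mem_invPts.1 hy).smul s
    rw [hc, mul_inv_cancel_right] at h
    exact mem_invPts.2 h
  have h1 : v ≠ p • x := fun h => hvx (MulAction.injective p (hpv.trans h))
  have hT : invPts z' = {v, p • x, u} := by
    refine (Finset.eq_of_subset_of_card_le ?_ ?_).symm
    · intro y hy
      simp only [Finset.mem_insert, Finset.mem_singleton] at hy
      rcases hy with rfl | rfl | rfl
      exacts [mem_invPts.2 hz'v, mem_invPts.2 hx', mem_invPts.2 hz'u]
    · rw [card_invPts hG hz'v.1, Finset.card_eq_three.2 ⟨v, p • x, u, h1, hvu, hxu, rfl⟩]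
  refine ⟨s * p, by rw [mul_smul, hpv, hsv], ?_⟩
  rw [mul_smul]
  have h2 := hmem _ (mem_invPts.2 hx')
  rw [hT] at h2
  simp only [Finset.mem_insert, Finset.mem_singleton] at h2
  rcases h2 with h | h | h
  · exact absurd (MulAction.injective s (h.trans hsv.symm)) h1.symm
  · exfalso
    refine hne (eq_of_fix_all hG hz'v.1 hs hc fun y hy => ?_)
    rw [hT] at hy
    simp only [Finset.mem_insert, Finset.mem_singleton] at hy
    rcases hy with rfl | rfl | rfl
    · exact hsv
    · exact h
    · have h3 := hmem _ (mem_invPts.2 hz'u)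
      rw [hT] at h3
      simp only [Finset.mem_insert, Finset.mem_singleton] at h3
      rcases h3 with h3 | h3 | h3
      · exact absurd (MulAction.injective s (h3.trans hsv.symm)).symm hvu
      · exact absurd (MulAction.injective s (h3.trans h.symm)).symm hxu
      · exact h3
  · exact h

/-- Each point has eighteen neighbours. -/
theorem card_nb : (Finset.univ.filter fun x => (adjGraph G).Adj v x).card = 18 := by
  set B := Finset.univ.filter fun t : G => Inv v t with hB
  have h : (Finset.univ.filter fun x => (adjGraph G).Adj v x) = B.biUnion fun t => (invPts t).erase v := by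
    ext x
    simp only [hB, Finset.mem_filter, Finset.mem_univ, true_and, Finset.mem_biUnion, Finset.mem_erase, mem_invPts]
    exact ⟨fun h => h.2.elim fun t ht => ⟨t, ht.1, h.1.symm, ht.2⟩, fun ⟨t, h1, h2, h3⟩ => ⟨h2.symm, t, h1, h3⟩⟩
  rw [h, Finset.card_biUnion]
  · have e : ∀ t ∈ B, ((invPts t).erase v).card = 2 := fun t ht => by
      simp only [hB, Finset.mem_filter, Finset.mem_univ, true_and] at ht
      rw [Finset.card_erase_of_mem (mem_invPts.2 ht), card_invPts hG ht.1]
    rw [Finset.sum_congr rfl e, Finset.sum_const, hB, ← Fintype.card_subtype, ← Nat.card_eq_fintype_card, card_inv hG,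
      smul_eq_mul]
  · intro a ha b hb hab
    simp only [hB, Finset.coe_filter, Finset.mem_univ, true_and, Set.mem_ofPred_eq] at ha hb
    refine Finset.disjoint_left.2 fun x hx hx' => hab ?_
    rw [Finset.mem_erase] at hx hx'
    exact inv_two_eq hG hx.1.symm ha hb (mem_invPts.1 hx.2) (mem_invPts.1 hx'.2)

theorem adj_unique_third {x : Sylow 3 G} {z : G} (hzv : Inv v z) (hzx : Inv x z) (hvx : v ≠ x) {g : G}
    (hgv : g • v = v) (hgx : g • x = x) : g * z = z * g ∧ ∀ y ∈ invPts z, g • y = y := by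
  have h1 := hzv.smul g
  have h2 := hzx.smul g
  rw [hgv] at h1
  rw [hgx] at h2
  have hc : g * z = z * g := mul_inv_eq_iff_eq_mul.1 (inv_two_eq hG hvx h1 hzv h2 hzx)
  refine ⟨hc, fun y hy => ?_⟩
  by_cases hyv : y = v
  · rw [hyv, hgv]
  by_cases hyx : y = x
  · rw [hyx, hgx]
  have hT : invPts z = {v, x, y} := by
    refine (Finset.eq_of_subset_of_card_le ?_ ?_).symm
    · intro w hw
      simp only [Finset.mem_insert, Finset.mem_singleton] at hw
      rcases hw with rfl | rfl | rfl
      exacts [mem_invPts.2 hzv, mem_invPts.2 hzx, hy]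
    · rw [card_invPts hG hzv.1, Finset.card_eq_three.2 ⟨v, x, y, hvx, Ne.symm hyv, Ne.symm hyx, rfl⟩]
  have hgy : g • y ∈ invPts z := by
    have h := (mem_invPts.1 hy).smul g
    rw [hc, mul_inv_cancel_right] at h
    exact mem_invPts.2 h
  rw [hT] at hgy
  simp only [Finset.mem_insert, Finset.mem_singleton] at hgy
  rcases hgy with h | h | h
  · exact absurd (MulAction.injective g (h.trans hgv.symm)) hyv
  · exact absurd (MulAction.injective g (h.trans hgx.symm)) hyx
  · exact h

/-- The stabiliser of two neighbours. -/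
theorem card_pair_stabilizer {x : Sylow 3 G} (hx : (adjGraph G).Adj v x) :
    Nat.card ↥(MulAction.stabilizer G v ⊓ MulAction.stabilizer G x) = 8 := by
  set N := MulAction.stabilizer G v
  have hN : Nat.card N = 144 := by
    rw [show N = Subgroup.normalizer ((v : Subgroup G) : Set G) from Sylow.stabilizer_eq_normalizer v,
      card_normalizer hG]
  have horb : MulAction.orbit N x = {u | (adjGraph G).Adj v u} := by
    ext u
    constructor
    · rintro ⟨n, rfl⟩
      have h := adj_smul hx (n : G)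
      rw [n.2] at h
      exact h
    · intro hu
      obtain ⟨g, hgv, hgx⟩ := exists_move_adj hG hx hu
      exact ⟨⟨g, hgv⟩, hgx⟩
  have h := MulAction.card_orbit_mul_card_stabilizer_eq_card_group N x
  rw [← Nat.card_eq_fintype_card, ← Nat.card_eq_fintype_card, ← Nat.card_eq_fintype_card, hN, horb,
    Nat.card_coe_set_eq, Set.ncard_eq_toFinset_card', Set.toFinset_ofPred, card_nb hG] at h
  rw [← Nat.card_congr (Subgroup.subgroupOfEquivOfLe (inf_le_left : N ⊓ MulAction.stabilizer G x ≤ N)).toEquiv]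
  rw [show Nat.card (MulAction.stabilizer N x) = Nat.card ((N ⊓ MulAction.stabilizer G x).subgroupOf N) from
    Nat.card_congr (Equiv.subtypeEquivRight fun g => by
      rw [MulAction.mem_stabilizer_iff, Subgroup.mem_subgroupOf, Subgroup.mem_inf, MulAction.mem_stabilizer_iff]
      exact ⟨fun h => ⟨g.2, h⟩, fun h => h.2⟩)] at h
  omega

/-- The local structure at an edge: a partner and regular orbits of the common stabiliser. -/
theorem local_edge {x : Sylow 3 G} (hx : (adjGraph G).Adj v x) :
    ∃ x', (adjGraph G).Adj v x' ∧ (adjGraph G).Adj x x' ∧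
      ∀ u, (adjGraph G).Adj v u → u ≠ x → u ≠ x' → ∃ O : Finset (Sylow 3 G), O.card = 8 ∧ u ∈ O ∧
        ∀ q ∈ O, ∃ g : G, g • v = v ∧ g • x = x ∧ g • x' = x' ∧ g • u = q := by
  haveI : Fact (Nat.Prime 2) := ⟨Nat.prime_two⟩
  obtain ⟨hvx, z, hzv, hzx⟩ := id hx
  obtain ⟨x', hx'm⟩ := Finset.card_pos.1 (show 0 < (((invPts z).erase v).erase x).card by
    rw [Finset.card_erase_of_mem (Finset.mem_erase.2 ⟨hvx.symm, mem_invPts.2 hzx⟩),
      Finset.card_erase_of_mem (mem_invPts.2 hzv), card_invPts hG hzv.1]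
    norm_num)
  simp only [Finset.mem_erase, mem_invPts] at hx'm
  obtain ⟨hxx', hvx', hzx'⟩ := hx'm
  refine ⟨x', ⟨hvx'.symm, z, hzv, hzx'⟩, ⟨hxx'.symm, z, hzx, hzx'⟩, fun u hu hux hux' => ?_⟩
  set H := MulAction.stabilizer G v ⊓ MulAction.stabilizer G x
  have hH := card_pair_stabilizer hG hx
  refine ⟨Finset.univ.image fun h : H => (h : G) • u, ?_, Finset.mem_image.2 ⟨1, by simp⟩, fun q hq => ?_⟩
  · rw [Finset.card_image_of_injective, Finset.card_univ, ← Nat.card_eq_fintype_card, hH]
    intro a b hab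
    by_contra hne
    have hm : (b : G)⁻¹ * a ∈ H := H.mul_mem (H.inv_mem b.2) a.2
    have hu' : ((b : G)⁻¹ * a) • u = u := by
      rw [mul_smul, show (a : G) • u = (b : G) • u from hab, inv_smul_smul]
    have hm1 : (b : G)⁻¹ * a ≠ 1 := fun h => hne (Subtype.ext (inv_mul_eq_one.1 h).symm)
    set m := (b : G)⁻¹ * a
    obtain ⟨i, hi⟩ := exists_prime_orderOf_dvd_card' 2 (show 2 ∣ Nat.card (Subgroup.zpowers m) by
      have hd : Nat.card (Subgroup.zpowers m) ∣ 2 ^ 3 := by
        rw [Nat.card_zpowers, show (2 : ℕ) ^ 3 = 8 from rfl, ← hH]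
        exact Subgroup.orderOf_dvd_natCard _ hm
      obtain ⟨k, -, hk⟩ := (Nat.dvd_prime_pow Nat.prime_two).1 hd
      rw [hk]
      refine dvd_pow_self 2 fun h0 => hm1 ?_
      rw [h0, pow_zero, Nat.card_zpowers] at hk
      exact orderOf_eq_one_iff.1 hk)
    rw [← Subgroup.orderOf_coe] at hi
    have hiH : (i : G) ∈ H := Subgroup.zpowers_le.2 hm i.2
    have hiu : (i : G) • u = u := by
      obtain ⟨k, hk⟩ := Subgroup.mem_zpowers_iff.1 i.2
      rw [← hk]
      exact (MulAction.stabilizer G u).zpow_mem hu' k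
    obtain ⟨hc, hall⟩ := adj_unique_third hG hzv hzx hvx hiH.1 hiH.2
    have hiz : (i : G) = z := eq_of_fix_all hG hzv.1 hi hc hall
    obtain ⟨hvu, z', hz'v, hz'u⟩ := hu
    rw [hiz] at hiH hiu hi
    obtain ⟨hc', hall'⟩ := adj_unique_third hG hz'v hz'u hvu hzv.fix hiu
    have hzz' : z = z' := eq_of_fix_all hG hz'v.1 hi hc' hall'
    subst hzz'
    have hT : invPts z = {v, x, x'} := by
      refine (Finset.eq_of_subset_of_card_le ?_ ?_).symm
      · intro w hw
        simp only [Finset.mem_insert, Finset.mem_singleton] at hw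
        rcases hw with rfl | rfl | rfl
        exacts [mem_invPts.2 hzv, mem_invPts.2 hzx, mem_invPts.2 hzx']
      · rw [card_invPts hG hzv.1, Finset.card_eq_three.2 ⟨v, x, x', hvx, hvx'.symm, hxx'.symm, rfl⟩]
    have : u ∈ invPts z := mem_invPts.2 hz'u
    rw [hT] at this
    simp only [Finset.mem_insert, Finset.mem_singleton] at this
    rcases this with h | h | h
    exacts [hvu h.symm, hux h, hux' h]
  · obtain ⟨h, -, rfl⟩ := Finset.mem_image.1 hq
    exact ⟨h, h.2.1, h.2.2, (adj_unique_third hG hzv hzx hvx h.2.1 h.2.2).2 _ (mem_invPts.2 hzx'), rfl⟩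

/-- The stabiliser of a point is transitive on the other points that are not neighbours. -/
theorem exists_move_nonadj {x u : Sylow 3 G} (hvx : v ≠ x) (hx : ¬ (adjGraph G).Adj v x)
    (hvu : v ≠ u) (hu : ¬ (adjGraph G).Adj v u) : ∃ g : G, g • v = v ∧ g • x = u := by
  haveI : Fact (Nat.Prime 3) := ⟨by norm_num⟩
  haveI : Fact (Nat.Prime 2) := ⟨Nat.prime_two⟩
  set N := MulAction.stabilizer G v
  have hN : Nat.card N = 144 := by
    rw [show N = Subgroup.normalizer ((v : Subgroup G) : Set G) from Sylow.stabilizer_eq_normalizer v,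
      card_normalizer hG]
  set S := N ⊓ MulAction.stabilizer G x
  have hS144 : Nat.card S ∣ 144 := hN ▸ Subgroup.card_dvd_of_le inf_le_left
  have h3 : ¬ 3 ∣ Nat.card S := by
    intro h
    obtain ⟨y, hy⟩ := exists_prime_orderOf_dvd_card' 3 h
    rw [← Subgroup.orderOf_coe] at hy
    exact ne_one_of_orderOf hy (by norm_num) (ti hG hvx (mem_of_order_three hG hy y.2.1)
      (mem_of_order_three hG hy y.2.2))
  have h16 : Nat.card S ∣ 16 := (((Nat.Prime.coprime_iff_not_dvd (by norm_num : Nat.Prime 3)).2 h3).symm.pow_right 2).dvd_of_dvd_mul_right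
    (show Nat.card S ∣ 16 * 3 ^ 2 from hS144)
  have h4 : Nat.card S ≤ 4 := by
    by_contra hlarge
    obtain ⟨k, hk', hk⟩ := (Nat.dvd_prime_pow Nat.prime_two).1 (show Nat.card S ∣ 2 ^ 4 from h16)
    haveI : Nontrivial S := Finite.one_lt_card_iff_nontrivial.1 (by omega)
    have hSp : IsPGroup 2 S := IsPGroup.of_card hk
    haveI := hSp.center_nontrivial
    obtain ⟨n, hn, hnc⟩ := (hSp.to_subgroup (Subgroup.center S)).nontrivial_iff_card.1 inferInstance
    obtain ⟨c', hc'⟩ := exists_prime_orderOf_dvd_card' 2 (show 2 ∣ Nat.card (Subgroup.center S) by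
      rw [hnc]; exact dvd_pow_self 2 hn.ne')
    set c : G := ((c' : S) : G) with hcdef
    have hc : orderOf c = 2 := by rw [hcdef, Subgroup.orderOf_coe, Subgroup.orderOf_coe, hc']
    have hcS : c ∈ S := (c' : S).2
    have hcen : ∀ d ∈ S, d * c = c * d := fun d hd =>
      congrArg Subtype.val (Subgroup.mem_center_iff.1 c'.2 ⟨d, hd⟩)
    obtain ⟨w, hw, hnw⟩ : ∃ w : Sylow 3 G, S ≤ MulAction.stabilizer G w ∧ ¬ Inv w c := by
      by_cases h : Inv v c
      · exact ⟨x, inf_le_right, fun h' => hx ⟨hvx, c, h, h'⟩⟩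
      · exact ⟨v, inf_le_left, h⟩
    obtain ⟨y, hy, hy1, hcy⟩ := exists_fixed hG hc (hw hcS) hnw
    set F := (w : Subgroup G) ⊓ Subgroup.centralizer ({c} : Set G)
    have hyF : y ∈ F := ⟨hy, Subgroup.mem_centralizer_singleton_iff.2 hcy.symm⟩
    have hF : F = Subgroup.zpowers y := by
      refine (Subgroup.eq_of_le_of_card_ge (Subgroup.zpowers_le.2 hyF) ?_).symm
      rw [Nat.card_zpowers, orderOf_three hG hy hy1]
      have hd : Nat.card F ∣ 9 := card_P hG (P := w) ▸ Subgroup.card_dvd_of_le inf_le_left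
      have hne : Nat.card F ≠ 9 := fun h9 => by
        have he : F = (w : Subgroup G) := Subgroup.eq_of_le_of_card_ge inf_le_left (by rw [card_P hG, h9])
        refine orderOf_two_notMem hG hc (mem_of_centralizes hG (v := w) fun a ha => ?_)
        rw [← Subgroup.mem_centralizer_singleton_iff.1 (he.symm ▸ ha : a ∈ F).2, mul_inv_cancel_right]
      have := Nat.le_of_dvd (by norm_num) hd
      interval_cases Nat.card F <;> omega
    have hsy : ∀ s ∈ S, s * y * s⁻¹ = y ∨ s * y * s⁻¹ = y⁻¹ := by
      intro s hs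
      have hm : s * y * s⁻¹ ∈ F := ⟨conj_mem_of_fix (hw hs) hy, Subgroup.mem_centralizer_singleton_iff.2 (by
        calc s * y * s⁻¹ * c = s * y * (s⁻¹ * c) := by group
          _ = s * (y * c) * s⁻¹ := by rw [hcen _ (inv_mem hs)]; group
          _ = (s * c) * y * s⁻¹ := by rw [← hcy]; group
          _ = c * (s * y * s⁻¹) := by rw [hcen s hs]; group)⟩
      rw [hF, ← mem_powers_iff_mem_zpowers, mem_powers_iff_mem_range_orderOf, orderOf_three hG hy hy1] at hm
      obtain ⟨i, hi, hi'⟩ := Finset.mem_image.1 hm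
      rw [Finset.mem_range] at hi
      interval_cases i
      · rw [pow_zero, eq_comm, conj_eq_one_iff] at hi'
        exact absurd hi' hy1
      · left; rw [← hi', pow_one]
      · right
        rw [← hi']
        refine eq_inv_of_mul_eq_one_left ?_
        rw [← pow_succ, show (2 + 1 : ℕ) = orderOf y by rw [orderOf_three hG hy hy1], pow_orderOf_eq_one]
    set Sy := S ⊓ Subgroup.centralizer ({y} : Set G)
    have hSy : Nat.card Sy ≤ 2 := by
      have h1 : Nat.card Sy ∣ 16 := (Subgroup.card_dvd_of_le inf_le_left).trans h16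
      have h2 : Nat.card Sy ∣ 18 := by
        rw [← (point_facts hG hy hy1).1]
        exact Subgroup.card_dvd_of_le fun a ha => ⟨Sylow.smul_eq_iff_mem_normalizer.1 (hw ha.1), ha.2⟩
      exact Nat.le_of_dvd (by norm_num) (Nat.dvd_gcd h1 h2)
    let A := Finset.univ.filter fun s : G => s ∈ S
    let A₁ := Finset.univ.filter fun s : G => s ∈ Sy
    have hA : A.card = Nat.card S := by rw [Nat.card_eq_fintype_card, Fintype.card_subtype]
    have hA₁ : A₁.card = Nat.card Sy := by rw [Nat.card_eq_fintype_card, Fintype.card_subtype]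
    have hout : (A \ A₁).card ≤ A₁.card := by
      rcases (A \ A₁).eq_empty_or_nonempty with h | ⟨s₀, hs₀⟩
      · simp [h]
      have hinv : ∀ s ∈ A \ A₁, s * y * s⁻¹ = y⁻¹ ∧ s ∈ S := by
        intro s hs
        simp only [A, A₁, Finset.mem_sdiff, Finset.mem_filter, Finset.mem_univ, true_and] at hs
        rcases hsy s hs.1 with h | h
        · exact absurd ⟨hs.1, Subgroup.mem_centralizer_singleton_iff.2 (mul_inv_eq_iff_eq_mul.1 h)⟩ hs.2
        · exact ⟨h, hs.1⟩
      refine Finset.card_le_card_of_injOn (s₀ * ·) (fun s hs => ?_) (mul_right_injective s₀).injOn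
      obtain ⟨h0, h0S⟩ := hinv s₀ hs₀
      obtain ⟨h1, h1S⟩ := hinv s hs
      simp only [A₁, Finset.coe_filter, Finset.mem_univ, true_and, Set.mem_ofPred_eq]
      refine ⟨mul_mem h0S h1S, Subgroup.mem_centralizer_singleton_iff.2 (mul_inv_eq_iff_eq_mul.1 ?_)⟩
      calc s₀ * s * y * (s₀ * s)⁻¹ = s₀ * (s * y * s⁻¹) * s₀⁻¹ := by group
        _ = (s₀ * y * s₀⁻¹)⁻¹ := by rw [h1]; group
        _ = y := by rw [h0, inv_inv]
    have := Finset.card_sdiff_add_card_inter A A₁
    have hle : (A ∩ A₁).card ≤ A₁.card := Finset.card_le_card Finset.inter_subset_right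
    omega
  have horb := MulAction.card_orbit_mul_card_stabilizer_eq_card_group N x
  rw [← Nat.card_eq_fintype_card, ← Nat.card_eq_fintype_card, ← Nat.card_eq_fintype_card, hN] at horb
  rw [show Nat.card (MulAction.stabilizer N x) = Nat.card S from by
    rw [← Nat.card_congr (Subgroup.subgroupOfEquivOfLe (inf_le_left : S ≤ N)).toEquiv]
    exact Nat.card_congr (Equiv.subtypeEquivRight fun g => by
      rw [MulAction.mem_stabilizer_iff, Subgroup.mem_subgroupOf, Subgroup.mem_inf, MulAction.mem_stabilizer_iff]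
      exact ⟨fun h => ⟨g.2, h⟩, fun h => h.2⟩)] at horb
  set R := (Finset.univ.filter fun y => v ≠ y ∧ ¬ (adjGraph G).Adj v y)
  have hR : R.card = 36 := by
    have e : R = ((Finset.univ.filter fun y => (adjGraph G).Adj v y)ᶜ).erase v := by
      ext y; simp [R, and_comm, ne_comm]
    rw [e, Finset.card_erase_of_mem (by simp), Finset.card_compl, ← Nat.card_eq_fintype_card, card_omega hG,
      card_nb hG]
  have hOR : (MulAction.orbit N x).toFinset = R := by
    refine Finset.eq_of_subset_of_card_le (fun y hy => ?_) ?_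
    · obtain ⟨n, rfl⟩ := Set.mem_toFinset.1 hy
      simp only [R, Finset.mem_filter, Finset.mem_univ, true_and]
      refine ⟨fun h => hvx (MulAction.injective (n : G) (n.2.trans h)), fun h => hx ((adj_smul_iff (n : G)).1 ?_)⟩
      rw [n.2]
      exact h
    · rw [hR, ← Set.ncard_eq_toFinset_card', ← Nat.card_coe_set_eq]
      by_contra hlt
      push_neg at hlt
      have := Nat.mul_le_mul (Nat.le_of_lt_succ (show _ < 35 + 1 from hlt)) h4
      omega
  have huR : u ∈ R := by simp [R, hvu, hu]
  rw [← hOR] at huR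
  obtain ⟨n, hn⟩ := Set.mem_toFinset.1 huR
  exact ⟨n, n.2, hn⟩

end Cfsg.Agent.M11Uniq
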