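import Mathlib.Combinatorics.SimpleGraph.Clique
import Mathlib.Combinatorics.SimpleGraph.AdjMatrix
import Mathlib.LinearAlgebra.Matrix.Charpoly.FiniteField
import Mathlib.Combinatorics.Enumerative.DoubleCounting
import Mathlib.Tactic

/-!
A graph on 55 vertices of valency 18, homogeneous on edges and non-edges, with the local structure of the
triangular graph of degree eleven: it has exactly eleven cliques of size ten.
-/

set_option linter.unusedSectionVars false
set_option linter.style.haveILetI false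
set_option linter.unusedFintypeInType false

namespace Cfsg.Agent.M11Uniq.Cliques

open scoped Classical
open Finset

theorem twelve_four : (12 : ZMod 13) * 4 ≠ 4 := by decide

variable {V : Type*} [Fintype V] (Γ : SimpleGraph V)

/-- The neighbours. -/
noncomputable def nb (v : V) : Finset V := univ.filter (Γ.Adj v)

theorem mem_nb {v x : V} : x ∈ nb Γ v ↔ Γ.Adj v x := by simp [nb]

theorem nb_map (σ : Γ ≃g Γ) (v : V) : (nb Γ v).image σ = nb Γ (σ v) := by
  ext x
  simp only [mem_image, mem_nb]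
  constructor
  · rintro ⟨y, hy, rfl⟩; exact σ.map_rel_iff.2 hy
  · intro h
    exact ⟨σ.symm x, σ.map_rel_iff.1 (by rwa [σ.apply_symm_apply]), σ.apply_symm_apply x⟩

/-- The hypotheses. -/
structure Local : Prop where
  card55 : Fintype.card V = 55
  deg : ∀ v, (nb Γ v).card = 18
  edge : ∀ v x u w, Γ.Adj v x → Γ.Adj u w → ∃ σ : Γ ≃g Γ, σ v = u ∧ σ x = w
  nonedge : ∀ v x u w, v ≠ x → ¬ Γ.Adj v x → u ≠ w → ¬ Γ.Adj u w → ∃ σ : Γ ≃g Γ, σ v = u ∧ σ x = w
  block : ∀ v x, Γ.Adj v x → ∃ x', Γ.Adj v x' ∧ Γ.Adj x x' ∧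
    ∀ u, Γ.Adj v u → u ≠ x → u ≠ x' → ∃ O : Finset V, O.card = 8 ∧ u ∈ O ∧
      ∀ q ∈ O, ∃ σ : Γ ≃g Γ, σ v = v ∧ σ x = x ∧ σ x' = x' ∧ σ u = q

variable {Γ} (h : Local Γ)

include h

theorem common_eq {v x u w : V} (σ : Γ ≃g Γ) (hv : σ v = u) (hx : σ x = w) :
    (nb Γ u ∩ nb Γ w).card = (nb Γ v ∩ nb Γ x).card := by
  rw [← hv, ← hx, ← nb_map, ← nb_map, ← image_inter _ _ σ.injective, card_image_of_injective _ σ.injective]

theorem common_const : ∃ l m, (∀ v x, Γ.Adj v x → (nb Γ v ∩ nb Γ x).card = l) ∧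
    (∀ v x, v ≠ x → ¬ Γ.Adj v x → (nb Γ v ∩ nb Γ x).card = m) ∧ 18 * l + 36 * m = 306 := by
  obtain ⟨v⟩ : Nonempty V := Fintype.card_pos_iff.1 (by rw [h.card55]; norm_num)
  obtain ⟨x, hx⟩ := card_pos.1 (show 0 < (nb Γ v).card by rw [h.deg]; norm_num)
  have hx' := (mem_nb Γ).1 hx
  have hsplit : (univ : Finset V).erase v = nb Γ v ∪ ((univ \ nb Γ v).erase v) := by
    ext a
    by_cases ha : Γ.Adj v a <;> simp [mem_nb, ha]
    exact fun e => Γ.ne_of_adj ha e.symm
  have hR : ((univ \ nb Γ v).erase v).card = 36 := by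
    rw [card_erase_of_mem (by simp [mem_nb]), card_sdiff_of_subset (subset_univ _), card_univ, h.card55, h.deg]
  obtain ⟨y, hy⟩ := card_pos.1 (show 0 < ((univ \ nb Γ v).erase v).card by rw [hR]; norm_num)
  simp only [mem_erase, mem_sdiff, mem_univ, true_and, mem_nb] at hy
  have hl : ∀ a b, Γ.Adj a b → (nb Γ a ∩ nb Γ b).card = (nb Γ v ∩ nb Γ x).card := fun a b hab => by
    obtain ⟨σ, h1, h2⟩ := h.edge v x a b hx' hab
    exact common_eq h σ h1 h2
  have hm : ∀ a b, a ≠ b → ¬ Γ.Adj a b → (nb Γ a ∩ nb Γ b).card = (nb Γ v ∩ nb Γ y).card := fun a b h1 h2 => by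
    obtain ⟨σ, e1, e2⟩ := h.nonedge v y a b hy.1.symm hy.2 h1 h2
    exact common_eq h σ e1 e2
  refine ⟨_, _, hl, hm, ?_⟩
  have key : ∑ w, (nb Γ v ∩ nb Γ w).card = 324 := by
    have e : ∀ w, (nb Γ v ∩ nb Γ w).card = ((nb Γ v).filter fun u => Γ.Adj w u).card := fun w => by
      congr 1; ext u; simp [mem_nb]
    simp only [e, card_filter]
    rw [sum_comm]
    have e2 : ∀ u ∈ nb Γ v, (∑ w, if Γ.Adj w u then 1 else 0) = 18 := fun u _ => by
      rw [← card_filter, ← h.deg u]
      congr 1; ext w; simp [mem_nb, Γ.adj_comm]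
    rw [sum_congr rfl e2, sum_const, h.deg, smul_eq_mul]
  rw [← add_sum_erase _ _ (mem_univ v), inter_self, h.deg, hsplit, sum_union, sum_congr rfl fun w hw => hl v w
    ((mem_nb Γ).1 hw), sum_congr rfl (fun w hw => hm v w ?_ ?_), sum_const, sum_const, h.deg, hR, smul_eq_mul,
    smul_eq_mul] at key
  · omega
  · simp only [mem_erase, mem_sdiff, mem_univ, true_and, mem_nb] at hw; exact hw.1.symm
  · simp only [mem_erase, mem_sdiff, mem_univ, true_and, mem_nb] at hw; exact hw.2
  · refine disjoint_left.2 fun a ha ha' => ?_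
    simp only [mem_erase, mem_sdiff, mem_univ, true_and] at ha'
    exact ha'.2 ha

/-- One common neighbour on an edge is impossible: a trace modulo 13. -/
theorem lambda_ne_one {m : ℕ} (hl : ∀ v x, Γ.Adj v x → (nb Γ v ∩ nb Γ x).card = 1)
    (hm : ∀ v x, v ≠ x → ¬ Γ.Adj v x → (nb Γ v ∩ nb Γ x).card = m) (hm8 : m = 8) : False := by
  haveI : Fact (Nat.Prime 13) := ⟨by norm_num⟩
  subst hm8
  set A : Matrix V V (ZMod 13) := Γ.adjMatrix (ZMod 13) with hA
  set J : Matrix V V (ZMod 13) := Matrix.of fun _ _ => 1 with hJ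
  have hAA : A * A = (18 : ZMod 13) • (1 : Matrix V V (ZMod 13)) + A + (8 : ZMod 13) • (J - 1 - A) := by
    ext i j
    have e : (A * A) i j = ((nb Γ i ∩ nb Γ j).card : ZMod 13) := by
      rw [hA, Matrix.mul_apply]
      simp only [SimpleGraph.adjMatrix_apply, mul_ite, mul_one, mul_zero, ← ite_and]
      rw [← sum_filter, sum_const, nsmul_eq_mul, mul_one]
      congr 2
      ext u
      simp [mem_nb, Γ.adj_comm u j, and_comm]
    rw [e]
    simp only [Matrix.add_apply, Matrix.sub_apply, Matrix.smul_apply, Matrix.one_apply, hJ, Matrix.of_apply, hA,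
      SimpleGraph.adjMatrix_apply, smul_eq_mul]
    by_cases hij : i = j
    · subst hij; simp [h.deg]
    by_cases hadj : Γ.Adj i j
    · rw [hl i j hadj]; simp [hij, hadj]
    · rw [hm i j hij hadj]; simp [hij, hadj]
  have hAJ : A * J = (5 : ZMod 13) • J := by
    ext i j
    simp only [hA, SimpleGraph.adjMatrix_mul_apply, hJ, Matrix.of_apply, Matrix.smul_apply, sum_const]
    rw [show Γ.neighborFinset i = nb Γ i by ext; simp [mem_nb], h.deg, smul_eq_mul, nsmul_eq_mul]
    simp only [mul_one, Nat.cast_ofNat]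
    reduce_mod_char
  have hJA : J * A = (5 : ZMod 13) • J := by
    ext i j
    simp only [hA, SimpleGraph.mul_adjMatrix_apply, hJ, Matrix.of_apply, Matrix.smul_apply, sum_const]
    rw [show Γ.neighborFinset j = nb Γ j by ext; simp [mem_nb], h.deg, smul_eq_mul, nsmul_eq_mul]
    simp only [mul_one, Nat.cast_ofNat]
    reduce_mod_char
  have hJJ : J * J = (3 : ZMod 13) • J := by
    ext i j
    simp only [hJ, Matrix.mul_apply, Matrix.of_apply, Matrix.smul_apply, one_mul, sum_const, card_univ, h.card55,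
      smul_eq_mul, nsmul_eq_mul, mul_one, Nat.cast_ofNat]
    reduce_mod_char
  set X : Matrix V V (ZMod 13) :=
    (2 : ZMod 13) • A + (7 : ZMod 13) • (1 : Matrix V V (ZMod 13)) + (3 : ZMod 13) • J with hX
  set P : Matrix V V (ZMod 13) := 1 - (9 : ZMod 13) • J with hP
  have hX2 : X * X = (11 : ZMod 13) • P := by
    simp only [hX, hP, mul_add, add_mul, smul_mul_assoc, mul_smul_comm, smul_smul, hAA, hAJ, hJA, hJJ,
      one_mul, mul_one, smul_add, smul_sub]
    ext i j
    simp only [Matrix.add_apply, Matrix.sub_apply, Matrix.smul_apply, smul_eq_mul]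
    ring_nf
    reduce_mod_char
    ring_nf
    reduce_mod_char
  have hXP : X * P = X := by
    simp only [hX, hP, mul_sub, mul_one, add_mul, smul_mul_assoc, mul_smul_comm, smul_smul, hAJ, hJJ, one_mul,
      smul_add]
    ext i j
    simp only [Matrix.add_apply, Matrix.sub_apply, Matrix.smul_apply, smul_eq_mul]
    ring_nf
    reduce_mod_char
    ring_nf
    reduce_mod_char
  have hX3 : X * (X * X) = (11 : ZMod 13) • X := by rw [hX2, mul_smul_comm, hXP]
  have step : ∀ k : ℕ, X ^ (2 * k + 1) = (11 : ZMod 13) ^ k • X := by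
    intro k
    induction k with
    | zero => simp
    | succ k ih =>
      rw [show 2 * (k + 1) + 1 = (2 * k + 1) + 2 by ring, pow_add, ih, smul_mul_assoc, pow_two, hX3, smul_smul,
        pow_succ]
  have hX13 : X ^ 13 = (12 : ZMod 13) • X := by
    have h6 := step 6
    rw [show (11 : ZMod 13) ^ 6 = 12 from rfl] at h6
    exact h6
  have htr := ZMod.trace_pow_card X
  rw [hX13, ZMod.pow_card, Matrix.trace_smul] at htr
  have htX : Matrix.trace X = 4 := by
    rw [hX, Matrix.trace_add, Matrix.trace_add, Matrix.trace_smul, Matrix.trace_smul, Matrix.trace_smul,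
      hA, SimpleGraph.trace_adjMatrix, Matrix.trace_one, h.card55]
    simp only [Matrix.trace, Matrix.diag, hJ, Matrix.of_apply, sum_const, card_univ, h.card55, smul_eq_mul,
      nsmul_eq_mul, mul_one, mul_zero, zero_add, Nat.cast_ofNat]
    reduce_mod_char
  rw [htX] at htr
  exact twelve_four htr

/-- Seventeen common neighbours on an edge are impossible. -/
theorem lambda_ne_seventeen (hl : ∀ v x, Γ.Adj v x → (nb Γ v ∩ nb Γ x).card = 17) : False := by
  let cl : V → Finset V := fun v => insert v (nb Γ v)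
  have hcard : ∀ v, (cl v).card = 19 := fun v => by
    rw [card_insert_of_notMem (by simp [mem_nb]), h.deg]
  have hcl : ∀ v x, Γ.Adj v x → cl v = cl x := by
    intro v x hvx
    refine eq_of_subset_of_card_le ?_ (by rw [hcard, hcard])
    have hxv : x ∈ nb Γ v := (mem_nb Γ).2 hvx
    have e : nb Γ v ∩ nb Γ x = (nb Γ v).erase x := by
      refine eq_of_subset_of_card_le (fun a ha => ?_) (by rw [card_erase_of_mem hxv, h.deg, hl v x hvx])
      rw [mem_inter, mem_nb, mem_nb] at ha
      exact mem_erase.2 ⟨(Γ.ne_of_adj ha.2).symm, (mem_nb Γ).2 ha.1⟩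
    intro a ha
    simp only [cl, mem_insert, mem_nb] at ha ⊢
    rcases ha with rfl | ha
    · exact Or.inr hvx.symm
    · by_cases hax : a = x
      · exact Or.inl hax
      · have : a ∈ nb Γ v ∩ nb Γ x := e ▸ mem_erase.2 ⟨hax, (mem_nb Γ).2 ha⟩
        rw [mem_inter, mem_nb Γ] at this
        exact Or.inr ((mem_nb Γ).1 this.2)
  have hdisj : ∀ v w, w ∉ cl v → Disjoint (cl v) (cl w) := by
    intro v w hw
    refine disjoint_left.2 fun a hav haw => hw ?_
    have e1 : cl a = cl v := by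
      simp only [cl, mem_insert, mem_nb] at hav
      rcases hav with rfl | hav
      · rfl
      · exact (hcl v a hav).symm
    have e2 : cl a = cl w := by
      simp only [cl, mem_insert, mem_nb] at haw
      rcases haw with rfl | haw
      · rfl
      · exact (hcl w a haw).symm
    rw [← e1, e2]
    exact mem_insert_self _ _
  obtain ⟨v⟩ : Nonempty V := Fintype.card_pos_iff.1 (by rw [h.card55]; norm_num)
  obtain ⟨u, -, hu⟩ := exists_mem_notMem_of_card_lt_card
    (show (cl v).card < (univ : Finset V).card by rw [hcard, card_univ, h.card55]; norm_num)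
  obtain ⟨w, -, hw⟩ := exists_mem_notMem_of_card_lt_card
    (show (cl v ∪ cl u).card < (univ : Finset V).card by
      rw [card_union_of_disjoint (hdisj v u hu), hcard, hcard, card_univ, h.card55]; norm_num)
  simp only [mem_union, not_or] at hw
  have hd : Disjoint (cl v ∪ cl u) (cl w) := disjoint_union_left.2 ⟨hdisj v w hw.1, hdisj u w hw.2⟩
  have := card_le_univ ((cl v ∪ cl u) ∪ cl w)
  rw [card_union_of_disjoint hd, card_union_of_disjoint (hdisj v u hu), hcard, hcard, hcard, h.card55] at this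
  omega

theorem params : (∀ v x, Γ.Adj v x → (nb Γ v ∩ nb Γ x).card = 9) ∧
    ∀ v x, v ≠ x → ¬ Γ.Adj v x → (nb Γ v ∩ nb Γ x).card = 4 := by
  obtain ⟨l, m, hl, hm, hlm⟩ := common_const h
  suffices l = 9 by subst this; exact ⟨hl, fun v x h1 h2 => by rw [hm v x h1 h2]; omega⟩
  obtain ⟨v⟩ : Nonempty V := Fintype.card_pos_iff.1 (by rw [h.card55]; norm_num)
  obtain ⟨x, hx⟩ := card_pos.1 (show 0 < (nb Γ v).card by rw [h.deg]; norm_num)
  have hvx := (mem_nb Γ).1 hx
  obtain ⟨x', hvx', hxx', hO⟩ := h.block v x hvx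
  set R := ((nb Γ v).erase x).erase x' with hR
  have hRc : R.card = 16 := by
    rw [hR, card_erase_of_mem (mem_erase.2 ⟨(Γ.ne_of_adj hxx').symm, (mem_nb Γ).2 hvx'⟩),
      card_erase_of_mem hx, h.deg]
  have hA : nb Γ v ∩ nb Γ x = insert x' (R ∩ nb Γ x) := by
    ext a
    simp only [mem_insert, mem_inter, hR, mem_erase, mem_nb]
    constructor
    · intro ha
      by_cases e : a = x'
      · exact Or.inl e
      · exact Or.inr ⟨⟨e, (Γ.ne_of_adj ha.2).symm, ha.1⟩, ha.2⟩
    · rintro (rfl | ⟨⟨-, -, h1⟩, h2⟩)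
      exacts [⟨hvx', hxx'⟩, ⟨h1, h2⟩]
  have hl' : l = (R ∩ nb Γ x).card + 1 := by
    rw [← hl v x hvx, hA, card_insert_of_notMem]
    simp [hR]
  have horb : ∀ u ∈ R, ∃ O : Finset V, O.card = 8 ∧ O ⊆ R ∧ ∀ q ∈ O, (Γ.Adj x q ↔ Γ.Adj x u) := by
    intro u hu
    simp only [hR, mem_erase, mem_nb] at hu
    obtain ⟨O, hOc, -, hOs⟩ := hO u hu.2.2 hu.2.1 hu.1
    refine ⟨O, hOc, fun q hq => ?_, fun q hq => ?_⟩
    · obtain ⟨σ, hv, hxs, hxs', rfl⟩ := hOs q hq
      simp only [hR, mem_erase, mem_nb]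
      refine ⟨fun e => hu.1 (σ.injective (e.trans hxs'.symm)), fun e => hu.2.1 (σ.injective (e.trans hxs.symm)), ?_⟩
      have := σ.map_rel_iff.2 hu.2.2
      rwa [hv] at this
    · obtain ⟨σ, hv, hxs, hxs', rfl⟩ := hOs q hq
      conv_lhs => rw [← hxs]
      exact σ.map_rel_iff
  have hsum := card_sdiff_add_card_inter R (nb Γ x)
  have c1 : 0 < (R ∩ nb Γ x).card → 8 ≤ (R ∩ nb Γ x).card := fun hp => by
    obtain ⟨u, hu⟩ := card_pos.1 hp
    rw [mem_inter, mem_nb] at hu
    obtain ⟨O, hOc, hOR, hOx⟩ := horb u hu.1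
    exact hOc ▸ card_le_card fun q hq => mem_inter.2 ⟨hOR hq, (mem_nb Γ).2 ((hOx q hq).2 hu.2)⟩
  have c2 : 0 < (R \ nb Γ x).card → 8 ≤ (R \ nb Γ x).card := fun hp => by
    obtain ⟨u, hu⟩ := card_pos.1 hp
    rw [mem_sdiff, mem_nb] at hu
    obtain ⟨O, hOc, hOR, hOx⟩ := horb u hu.1
    exact hOc ▸ card_le_card fun q hq => mem_sdiff.2 ⟨hOR hq, fun e => hu.2 ((hOx q hq).1 ((mem_nb Γ).1 e))⟩
  by_contra hne
  rcases (show l = 1 ∨ l = 17 by omega) with rfl | rfl
  · exact lambda_ne_one h hl hm (by omega)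
  · exact lambda_ne_seventeen h hl

/-- Each edge lies in exactly one clique of size ten, and the second one at an end contains the partner. -/
theorem edge_clique (v x : V) (hvx : Γ.Adj v x) : ∃ x' C, Γ.Adj v x' ∧ Γ.Adj x x' ∧ x' ∉ C ∧ x ∈ C ∧ v ∈ C ∧
    Γ.IsNClique 10 C ∧ (∀ D, Γ.IsNClique 10 D → v ∈ D → x ∈ D → D = C) ∧
    ∀ u, Γ.Adj v u → u ∉ C → u = x' ∨ Γ.Adj x' u := by
  obtain ⟨hl, hm⟩ := params h
  obtain ⟨x', hvx', hxx', hO⟩ := h.block v x hvx
  set R := ((nb Γ v).erase x).erase x' with hR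
  set A := R ∩ nb Γ x with hAdef
  set B := R \ nb Γ x with hBdef
  have hmemR : ∀ {u}, u ∈ R → Γ.Adj v u ∧ u ≠ x ∧ u ≠ x' := fun {u} hu => by
    simp only [hR, mem_erase, mem_nb] at hu; exact ⟨hu.2.2, hu.2.1, hu.1⟩
  have hRc : R.card = 16 := by
    rw [hR, card_erase_of_mem (mem_erase.2 ⟨(Γ.ne_of_adj hxx').symm, (mem_nb Γ).2 hvx'⟩),
      card_erase_of_mem ((mem_nb Γ).2 hvx), h.deg]
  have hA : nb Γ v ∩ nb Γ x = insert x' A := by
    ext a
    simp only [mem_insert, mem_inter, hAdef, hR, mem_erase, mem_nb]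
    constructor
    · intro ha
      by_cases e : a = x'
      · exact Or.inl e
      · exact Or.inr ⟨⟨e, (Γ.ne_of_adj ha.2).symm, ha.1⟩, ha.2⟩
    · rintro (rfl | ⟨⟨-, -, h1⟩, h2⟩)
      exacts [⟨hvx', hxx'⟩, ⟨h1, h2⟩]
  have hAc : A.card = 8 := by
    have := hl v x hvx
    rw [hA, card_insert_of_notMem (by simp [hAdef, hR])] at this
    omega
  have hA'c : (R ∩ nb Γ x').card = 8 := by
    have := hl v x' hvx'
    have e : nb Γ v ∩ nb Γ x' = insert x (R ∩ nb Γ x') := by
      ext a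
      simp only [mem_insert, mem_inter, hR, mem_erase, mem_nb]
      constructor
      · intro ha
        by_cases e : a = x
        · exact Or.inl e
        · exact Or.inr ⟨⟨(Γ.ne_of_adj ha.2).symm, e, ha.1⟩, ha.2⟩
      · rintro (rfl | ⟨⟨-, -, h1⟩, h2⟩)
        exacts [⟨hvx, hxx'.symm⟩, ⟨h1, h2⟩]
    rw [e, card_insert_of_notMem (by simp [hR])] at this
    omega
  have hBc : B.card = 8 := by
    have := card_sdiff_add_card_inter R (nb Γ x)
    rw [← hBdef, ← hAdef] at this
    omega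
  have horb : ∀ u ∈ A, ∀ q ∈ A, ∃ σ : Γ ≃g Γ, σ v = v ∧ σ x = x ∧ σ x' = x' ∧ σ u = q := by
    intro u hu
    have hu' := mem_inter.1 hu
    obtain ⟨hvu, hux, hux'⟩ := hmemR hu'.1
    obtain ⟨O, hOc, -, hOs⟩ := hO u hvu hux hux'
    have hOA : O = A := by
      refine eq_of_subset_of_card_le (fun q hq => ?_) (by rw [hOc, hAc])
      obtain ⟨σ, hv, hxs, hxs', rfl⟩ := hOs q hq
      have e1 := σ.map_rel_iff.2 hvu
      have e2 := σ.map_rel_iff.2 ((mem_nb Γ).1 hu'.2)
      rw [hv] at e1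
      rw [hxs] at e2
      simp only [hAdef, hR, mem_inter, mem_erase, mem_nb]
      exact ⟨⟨fun e => hux' (σ.injective (e.trans hxs'.symm)), fun e => hux (σ.injective (e.trans hxs.symm)), e1⟩, e2⟩
    exact hOA ▸ hOs
  -- common neighbours inside the neighbourhood of the first vertex
  have hloc : ∀ a b : V, Γ.Adj v a → Γ.Adj v b → a ≠ b → ¬ Γ.Adj a b →
      (nb Γ v ∩ (nb Γ a ∩ nb Γ b)).card ≤ 3 := by
    intro a b ha hb hab hn
    have hsub : insert v (nb Γ v ∩ (nb Γ a ∩ nb Γ b)) ⊆ nb Γ a ∩ nb Γ b := by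
      refine insert_subset (mem_inter.2 ⟨(mem_nb Γ).2 ha.symm, (mem_nb Γ).2 hb.symm⟩) inter_subset_right
    have := card_le_card hsub
    rw [hm a b hab hn, card_insert_of_notMem (by simp [mem_nb])] at this
    omega
  -- the neighbours in the neighbourhood of a member of A
  have hcount : ∀ u ∈ A, 8 = (R ∩ nb Γ u).card + (if Γ.Adj x' u then 1 else 0) := by
    intro u hu
    have hu' := mem_inter.1 hu
    obtain ⟨hvu, hux, hux'⟩ := hmemR hu'.1
    have e : nb Γ v ∩ nb Γ u = insert x ((if Γ.Adj x' u then {x'} else ∅) ∪ (R ∩ nb Γ u)) := by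
      ext a
      simp only [mem_insert, mem_union, mem_inter, hR, mem_erase, mem_nb]
      constructor
      · intro ha
        by_cases e1 : a = x
        · exact Or.inl e1
        by_cases e2 : a = x'
        · subst e2; rw [if_pos ha.2.symm]; exact Or.inr (Or.inl (mem_singleton_self _))
        · exact Or.inr (Or.inr ⟨⟨e2, e1, ha.1⟩, ha.2⟩)
      · rintro (rfl | h1 | ⟨⟨-, -, h1⟩, h2⟩)
        · exact ⟨hvx, ((mem_nb Γ).1 hu'.2).symm⟩
        · split_ifs at h1 with hc
          · rw [mem_singleton] at h1; subst h1; exact ⟨hvx', hc.symm⟩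
          · exact absurd h1 (notMem_empty _)
        · exact ⟨h1, h2⟩
    have := hl v u hvu
    rw [e, card_insert_of_notMem, card_union_of_disjoint] at this
    · split_ifs at this ⊢ <;> simp at this <;> omega
    · split_ifs <;> simp [hR]
    · split_ifs <;> simp [hR, Γ.ne_of_adj hxx']
  have hsplit : ∀ u : V, (R ∩ nb Γ u).card = (A ∩ nb Γ u).card + (B ∩ nb Γ u).card := fun u => by
    rw [← card_union_of_disjoint, ← union_inter_distrib_right, hBdef, hAdef, union_comm, sdiff_union_inter]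
    exact (disjoint_sdiff_inter R (nb Γ x)).symm.mono inter_subset_left inter_subset_left
  have hAlt : ∀ u ∈ A, (A ∩ nb Γ u).card ≤ 7 := fun u hu => by
    have : A ∩ nb Γ u ⊆ A.erase u := fun a ha => by
      rw [mem_inter, mem_nb Γ] at ha
      exact mem_erase.2 ⟨(Γ.ne_of_adj ha.2).symm, ha.1⟩
    have := card_le_card this
    rw [card_erase_of_mem hu, hAc] at this
    omega
  -- a clique criterion
  have hclq : ∀ (k : ℕ) (T : Finset V), T ⊆ nb Γ v → Disjoint T A → (∀ t ∈ T, ∀ a ∈ A, Γ.Adj a t) →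
      (∀ a ∈ A, k ≤ (A ∩ nb Γ a).card) → 10 ≤ T.card + 2 * k →
      ∀ a ∈ A, ∀ b ∈ A, a ≠ b → Γ.Adj a b := by
    intro k T hTv hTA hT hk hsz a ha b hb hab
    by_contra hn
    have hva := (hmemR (mem_inter.1 ha).1).1
    have hvb := (hmemR (mem_inter.1 hb).1).1
    have hsub : T ∪ ((A ∩ nb Γ a) ∩ (A ∩ nb Γ b)) ⊆ nb Γ v ∩ (nb Γ a ∩ nb Γ b) := by
      refine union_subset (fun t ht => ?_) fun t ht => ?_
      · exact mem_inter.2 ⟨hTv ht, mem_inter.2 ⟨(mem_nb Γ).2 (hT t ht a ha), (mem_nb Γ).2 (hT t ht b hb)⟩⟩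
      · simp only [mem_inter] at ht
        exact mem_inter.2 ⟨(mem_nb Γ).2 (hmemR (mem_inter.1 ht.1.1).1).1, mem_inter.2 ⟨ht.1.2, ht.2.2⟩⟩
    have h1 := card_le_card hsub
    have h2 := hloc a b hva hvb hab hn
    rw [card_union_of_disjoint (hTA.mono_right (inter_subset_left.trans inter_subset_left))] at h1
    have h3 := card_union_add_card_inter (A ∩ nb Γ a) (A ∩ nb Γ b)
    have h4 : (A ∩ nb Γ a ∪ A ∩ nb Γ b).card ≤ 6 := by
      have hs : A ∩ nb Γ a ∪ A ∩ nb Γ b ⊆ (A.erase a).erase b := by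
        refine union_subset (fun t ht => ?_) fun t ht => ?_ <;> rw [mem_inter, mem_nb Γ] at ht
        · exact mem_erase.2 ⟨fun e => hn (e ▸ ht.2), mem_erase.2 ⟨(Γ.ne_of_adj ht.2).symm, ht.1⟩⟩
        · exact mem_erase.2 ⟨(Γ.ne_of_adj ht.2).symm, mem_erase.2 ⟨fun e => hn ((e ▸ ht.2).symm), ht.1⟩⟩
      have := card_le_card hs
      rw [card_erase_of_mem (mem_erase.2 ⟨hab.symm, hb⟩), card_erase_of_mem ha, hAc] at this
      omega
    have := hk a ha
    have := hk b hb
    omega
  have hxA : ∀ a ∈ A, Γ.Adj a x := fun a ha => ((mem_nb Γ).1 (mem_inter.1 ha).2).symm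
  have hx'x : x' ≠ x := (Γ.ne_of_adj hxx').symm
  have hxA' : x ∉ A := fun e => (hmemR (mem_inter.1 e).1).2.1 rfl
  -- the partner is joined to no member of A
  have hcross : ∀ a ∈ A, ¬ Γ.Adj x' a := by
    by_contra hc
    push_neg at hc
    obtain ⟨a₀, ha₀, had⟩ := hc
    have hall : ∀ a ∈ A, Γ.Adj x' a := fun a ha => by
      obtain ⟨σ, -, -, hx', rfl⟩ := horb a₀ ha₀ a ha
      rw [← hx']
      exact σ.map_rel_iff.2 had
    have hAA' : R ∩ nb Γ x' = A :=
      (eq_of_subset_of_card_le (fun a ha => mem_inter.2 ⟨(mem_inter.1 ha).1, (mem_nb Γ).2 (hall a ha)⟩)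
        (by rw [hA'c, hAc])).symm
    -- few neighbours in B
    have hb : ∀ a ∈ A, (B ∩ nb Γ a).card = (B ∩ nb Γ a₀).card := fun a ha => by
      obtain ⟨σ, hv, hxs, hxs', rfl⟩ := horb a₀ ha₀ a ha
      have hBs : B.image σ = B := by
        refine eq_of_subset_of_card_le (fun q hq => ?_) (by rw [card_image_of_injective _ σ.injective])
        obtain ⟨p, hp, rfl⟩ := mem_image.1 hq
        simp only [hBdef, hR, mem_sdiff, mem_erase, mem_nb] at hp ⊢
        refine ⟨⟨fun e => hp.1.1 (σ.injective (e.trans hxs'.symm)), fun e => hp.1.2.1 (σ.injective (e.trans hxs.symm)),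
          ?_⟩, fun e => hp.2 ?_⟩
        · rw [← hv]; exact σ.map_rel_iff.2 hp.1.2.2
        · rw [← hxs] at e; exact σ.map_rel_iff.1 e
      conv_lhs => rw [← hBs, ← nb_map, ← image_inter _ _ σ.injective, card_image_of_injective _ σ.injective]
    have hle : ∀ w ∈ B, (A.bipartiteBelow (fun a w => Γ.Adj a w) w).card ≤ 3 := fun w hw => by
      have hw' := mem_sdiff.1 hw
      refine le_trans (card_le_card fun a ha => ?_) (hloc x w hvx (hmemR hw'.1).1 (hmemR hw'.1).2.1.symm
        fun e => hw'.2 ((mem_nb Γ).2 e))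
      simp only [bipartiteBelow, mem_filter] at ha
      exact mem_inter.2 ⟨(mem_nb Γ).2 (hmemR (mem_inter.1 ha.1).1).1,
        mem_inter.2 ⟨(mem_inter.1 ha.1).2, (mem_nb Γ).2 ha.2.symm⟩⟩
    have hcount' := card_mul_le_card_mul (fun a w => Γ.Adj a w) (s := A) (t := B)
      (m := (B ∩ nb Γ a₀).card) (n := 3) (fun a ha => by
        rw [← hb a ha]
        exact card_le_card fun w hw => by
          rw [mem_inter, mem_nb Γ] at hw
          exact mem_filter.2 ⟨hw.1, hw.2⟩) hle
    rw [hAc, hBc] at hcount'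
    have hk : ∀ a ∈ A, 4 ≤ (A ∩ nb Γ a).card := fun a ha => by
      have := hcount a ha
      rw [if_pos (hall a ha), hsplit] at this
      have := hb a ha
      omega
    have hA7 := hclq 4 {x, x'} (by
        intro t ht; simp only [mem_insert, mem_singleton] at ht
        rcases ht with rfl | rfl <;> exact (mem_nb Γ).2 (by assumption))
      (disjoint_left.2 fun t ht hta => by
        simp only [mem_insert, mem_singleton] at ht
        rcases ht with rfl | rfl
        · exact hxA' hta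
        · exact (hmemR (mem_inter.1 hta).1).2.2 rfl)
      (fun t ht a ha => by
        simp only [mem_insert, mem_singleton] at ht
        rcases ht with rfl | rfl
        exacts [hxA a ha, (hall a ha).symm]) hk (by rw [card_pair hx'x.symm])
    obtain ⟨w, hw⟩ := card_pos.1 (show 0 < B.card by rw [hBc]; norm_num)
    have hw' := mem_sdiff.1 hw
    obtain ⟨hvw, hwx, hwx'⟩ := hmemR hw'.1
    have hsub : nb Γ v ∩ nb Γ w ⊆ B.erase w := by
      intro q hq
      rw [mem_inter, mem_nb Γ, mem_nb Γ] at hq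
      refine mem_erase.2 ⟨(Γ.ne_of_adj hq.2).symm, ?_⟩
      have hqx : q ≠ x := fun e => hw'.2 ((mem_nb Γ).2 (e ▸ hq.2).symm)
      have hqx' : q ≠ x' := fun e => by
        subst e
        have : w ∈ A := hAA' ▸ mem_inter.2 ⟨hw'.1, (mem_nb Γ).2 hq.2.symm⟩
        exact hw'.2 (mem_inter.1 this).2
      have hqR : q ∈ R := by simp [hR, mem_nb, hq.1, hqx, hqx']
      refine mem_sdiff.2 ⟨hqR, fun hqn => ?_⟩
      have hqA : q ∈ A := mem_inter.2 ⟨hqR, hqn⟩
      have h7 : A.erase q ⊆ A ∩ nb Γ q := fun a ha => by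
        rw [mem_erase] at ha
        exact mem_inter.2 ⟨ha.2, (mem_nb Γ).2 (hA7 q hqA a ha.2 ha.1.symm)⟩
      have h7' := card_le_card h7
      rw [card_erase_of_mem hqA, hAc] at h7'
      have h0 := hcount q hqA
      rw [if_pos (hall q hqA), hsplit] at h0
      have : 0 < (B ∩ nb Γ q).card := card_pos.2 ⟨w, mem_inter.2 ⟨hw, (mem_nb Γ).2 hq.2.symm⟩⟩
      omega
    have := card_le_card hsub
    rw [hl v w hvw, card_erase_of_mem hw, hBc] at this
    omega
  have hB' : R ∩ nb Γ x' = B := by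
    refine eq_of_subset_of_card_le (fun a ha => ?_) (by rw [hBc, hA'c])
    rw [mem_inter, mem_nb Γ] at ha
    exact mem_sdiff.2 ⟨ha.1, fun e => hcross a (mem_inter.2 ⟨ha.1, e⟩) ha.2⟩
  have hk : ∀ a ∈ A, 6 ≤ (A ∩ nb Γ a).card := fun a ha => by
    have h0 := hcount a ha
    rw [if_neg (hcross a ha), hsplit] at h0
    have hva := (hmemR (mem_inter.1 ha).1).1
    have hsub : insert x (B ∩ nb Γ a) ⊆ nb Γ v ∩ (nb Γ x' ∩ nb Γ a) := by
      refine insert_subset ?_ fun b hb => ?_
      · exact mem_inter.2 ⟨(mem_nb Γ).2 hvx, mem_inter.2 ⟨(mem_nb Γ).2 hxx'.symm, (mem_nb Γ).2 (hxA a ha)⟩⟩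
      · rw [mem_inter] at hb
        exact mem_inter.2 ⟨(mem_nb Γ).2 (hmemR (mem_sdiff.1 hb.1).1).1,
          mem_inter.2 ⟨(mem_inter.1 (hB'.symm ▸ hb.1)).2, hb.2⟩⟩
    have h1 := card_le_card hsub
    rw [card_insert_of_notMem (fun e => (hmemR (mem_sdiff.1 (mem_inter.1 e).1).1).2.1 rfl)] at h1
    have := hloc x' a hvx' hva (hmemR (mem_inter.1 ha).1).2.2.symm (hcross a ha)
    simp only [hBdef] at h0 h1
    omega
  have hA7 := hclq 6 {x} (by simp [mem_nb, hvx]) (disjoint_singleton_left.2 hxA')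
    (fun t ht a ha => by rw [mem_singleton.1 ht]; exact hxA a ha) hk (by simp)
  refine ⟨x', insert v (insert x A), hvx', hxx', ?_, by simp, by simp, ⟨?_, ?_⟩, ?_, ?_⟩
  · simp [hAdef, hR, hx'x, (Γ.ne_of_adj hvx').symm]
  · intro a ha b hb hab
    simp only [coe_insert, Set.mem_insert_iff, mem_coe] at ha hb
    rcases ha with rfl | rfl | ha <;> rcases hb with rfl | rfl | hb
    · exact absurd rfl hab
    · exact hvx
    · exact (hmemR (mem_inter.1 hb).1).1
    · exact hvx.symm
    · exact absurd rfl hab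
    · exact (hxA b hb).symm
    · exact (hmemR (mem_inter.1 ha).1).1.symm
    · exact hxA a ha
    · exact hA7 a ha b hb hab
  · rw [card_insert_of_notMem, card_insert_of_notMem hxA', hAc]
    simp only [mem_insert, not_or]
    exact ⟨Γ.ne_of_adj hvx, fun e => (Γ.ne_of_adj (hmemR (mem_inter.1 e).1).1) rfl⟩
  · intro D hD hvD hxD
    have hsub : D ⊆ insert x' (insert v (insert x A)) := by
      intro a ha
      simp only [mem_insert]
      by_cases e1 : a = v
      · exact Or.inr (Or.inl e1)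
      by_cases e2 : a = x
      · exact Or.inr (Or.inr (Or.inl e2))
      by_cases e3 : a = x'
      · exact Or.inl e3
      refine Or.inr (Or.inr (Or.inr (mem_inter.2 ⟨?_, (mem_nb Γ).2 (hD.1 hxD ha (Ne.symm e2))⟩)))
      simp only [hR, mem_erase, mem_nb]
      exact ⟨e3, e2, hD.1 hvD ha (Ne.symm e1)⟩
    have hx'D : x' ∉ D := fun e => by
      have h2 : D ⊆ {x', v, x} := fun a ha => by
        have := hsub ha
        simp only [mem_insert, mem_singleton] at this ⊢
        rcases this with h | h | h | h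
        · exact Or.inl h
        · exact Or.inr (Or.inl h)
        · exact Or.inr (Or.inr h)
        · exact absurd (hD.1 e ha (hmemR (mem_inter.1 h).1).2.2.symm) (hcross a h)
      have := (card_le_card h2).trans card_le_three
      rw [hD.2] at this
      omega
    refine eq_of_subset_of_card_le ((subset_insert_iff_of_notMem hx'D).1 hsub) ?_
    rw [hD.2]
    exact (card_insert_le _ _).trans (Nat.add_le_add_right ((card_insert_le _ _).trans_eq (by rw [hAc])) 1)
  · intro u hvu hu
    simp only [mem_insert, not_or] at hu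
    by_cases e : u = x'
    · exact Or.inl e
    have huR : u ∈ R := by simp [hR, mem_nb, hvu, e, hu.2.1]
    have huB : u ∈ B := mem_sdiff.2 ⟨huR, fun h' => hu.2.2 (mem_inter.2 ⟨huR, h'⟩)⟩
    exact Or.inr ((mem_nb Γ).1 (mem_inter.1 (hB'.symm ▸ huB)).2)

/-- Exactly eleven cliques of size ten. -/
theorem card_cliques : (univ.filter fun C : Finset V => Γ.IsNClique 10 C).card = 11 := by
  set K := univ.filter fun C : Finset V => Γ.IsNClique 10 C with hK
  have htwo : ∀ v, (K.bipartiteBelow (fun C v => v ∈ C) v).card = 2 := by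
    intro v
    obtain ⟨x, hx⟩ := card_pos.1 (show 0 < (nb Γ v).card by rw [h.deg]; norm_num)
    obtain ⟨x', C, hvx', hxx', hx'C, hxC, hvC, hC, huC, hrest⟩ := edge_clique h v x ((mem_nb Γ).1 hx)
    obtain ⟨x'', C', -, -, -, hx'C', hvC', hC', huC', -⟩ := edge_clique h v x' hvx'
    have hne : C ≠ C' := fun e => hx'C (e ▸ hx'C')
    rw [← card_pair hne]
    congr 1
    ext D
    simp only [bipartiteBelow, hK, mem_filter, mem_univ, true_and, mem_insert, mem_singleton]
    constructor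
    · rintro ⟨hD, hvD⟩
      by_cases hDC : D = C
      · exact Or.inl hDC
      refine Or.inr ?_
      -- a member off the first clique
      obtain ⟨u, huD, huC''⟩ : ∃ u ∈ D, u ∉ C := by
        by_contra hall
        push_neg at hall
        exact hDC (eq_of_subset_of_card_le hall (by rw [hD.2, hC.2]))
      have huv : v ≠ u := fun e => huC'' (e ▸ hvC)
      have hvu := hD.1 hvD huD huv
      rcases hrest u hvu huC'' with rfl | hadj
      · exact huC' D hD hvD huD
      · obtain ⟨-, E, -, -, -, -, -, -, hEu, -⟩ := edge_clique h v u hvu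
        -- the member lies in the second clique
        have huC2 : u ∈ C' := by
          by_contra hnot
          have hsub : insert u (insert x ((C'.erase v).erase x')) ⊆ nb Γ v ∩ nb Γ x' := by
            refine insert_subset (mem_inter.2 ⟨(mem_nb Γ).2 hvu, (mem_nb Γ).2 hadj⟩) (insert_subset
              (mem_inter.2 ⟨hx, (mem_nb Γ).2 hxx'.symm⟩) fun a ha => ?_)
            simp only [mem_erase] at ha
            exact mem_inter.2 ⟨(mem_nb Γ).2 (hC'.1 hvC' ha.2.2 ha.2.1.symm),
              (mem_nb Γ).2 (hC'.1 hx'C' ha.2.2 ha.1.symm)⟩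
          have hxC' : x ∉ C' := fun e => hne (huC C' hC' hvC' e).symm
          have h1 := card_le_card hsub
          rw [(params h).1 v x' hvx', card_insert_of_notMem, card_insert_of_notMem (by simp [hxC']),
            card_erase_of_mem (mem_erase.2 ⟨(Γ.ne_of_adj hvx').symm, hx'C'⟩), card_erase_of_mem hvC', hC'.2] at h1
          · omega
          · simp only [mem_insert, mem_erase, not_or, not_and]
            exact ⟨fun e => huC'' (e ▸ hxC), fun _ _ => hnot⟩
        rw [hEu D hD hvD huD]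
        exact (hEu C' hC' hvC' huC2).symm
    · rintro (rfl | rfl)
      exacts [⟨hC, hvC⟩, ⟨hC', hvC'⟩]
  have := card_mul_eq_card_mul (fun C v => v ∈ C) (s := K) (t := univ) (m := 10) (n := 2)
    (fun C hC => by
      rw [hK, mem_filter] at hC
      rw [← hC.2.2]
      congr 1; ext; simp [bipartiteAbove])
    fun v _ => htwo v
  rw [card_univ, h.card55] at this
  omega

end Cfsg.Agent.M11Uniq.Cliques
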