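import Cfsg.Agent.Lib.M11Uniq.Adjacency
import Cfsg.Agent.Lib.M11Uniq.Cliques

/-!
A simple group of order 7920 acts faithfully on eleven points.
-/

set_option linter.unusedSectionVars false
set_option linter.style.haveILetI false

namespace Cfsg.Agent.M11Uniq

open Cfsg
open scoped Pointwise Classical

universe u

variable {G : Type u} [Group G] [Fintype G] [IsSimpleGroup G] (hG : Nat.card G = 7920)

include hG

/-- The action of an element as an automorphism of the graph. -/
noncomputable def adjIso (g : G) : adjGraph G ≃g adjGraph G :=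
  ⟨MulAction.toPerm g, adj_smul_iff g⟩

theorem local_structure : Cliques.Local (adjGraph G) where
  card55 := by rw [← Nat.card_eq_fintype_card, card_omega hG]
  deg v := by
    rw [← card_nb hG (v := v)]
    rfl
  edge v x u w hvx huw := by
    obtain ⟨g, hg⟩ := MulAction.exists_smul_eq G v u
    have hx' := adj_smul hvx g
    rw [hg] at hx'
    obtain ⟨n, hn, hnx⟩ := exists_move_adj hG hx' huw
    refine ⟨adjIso (n * g), ?_, ?_⟩
    · show (n * g) • v = u; rw [mul_smul, hg, hn]
    · show (n * g) • x = w; rw [mul_smul, hnx]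
  nonedge v x u w hne hvx hne' huw := by
    obtain ⟨g, hg⟩ := MulAction.exists_smul_eq G v u
    have h1 : u ≠ g • x := fun e => hne (MulAction.injective g (hg.trans e))
    have h2 : ¬ (adjGraph G).Adj u (g • x) := fun e => hvx ((adj_smul_iff g).1 (hg.symm ▸ e))
    obtain ⟨n, hn, hnx⟩ := exists_move_nonadj hG h1 h2 hne' huw
    refine ⟨adjIso (n * g), ?_, ?_⟩
    · show (n * g) • v = u; rw [mul_smul, hg, hn]
    · show (n * g) • x = w; rw [mul_smul, hnx]
  block v x hvx := by
    obtain ⟨x', h1, h2, h3⟩ := local_edge hG hvx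
    refine ⟨x', h1, h2, fun u hu hux hux' => ?_⟩
    obtain ⟨O, hO, huO, hq⟩ := h3 u hu hux hux'
    refine ⟨O, hO, huO, fun q hqO => ?_⟩
    obtain ⟨g, g1, g2, g3, g4⟩ := hq q hqO
    exact ⟨adjIso g, g1, g2, g3, g4⟩

theorem clique_smul {C : Finset (Sylow 3 G)} (hC : (adjGraph G).IsNClique 10 C) (g : G) :
    (adjGraph G).IsNClique 10 (g • C) := by
  refine ⟨fun a ha b hb hab => ?_, by rw [Finset.card_smul_finset, hC.2]⟩
  obtain ⟨a', ha', rfl⟩ := Finset.mem_smul_finset.1 ha
  obtain ⟨b', hb', rfl⟩ := Finset.mem_smul_finset.1 hb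
  exact adj_smul (hC.1 ha' hb' fun e => hab (e ▸ rfl)) g

theorem exists_embedding : ∃ φ : G →* Equiv.Perm (Fin 11), Function.Injective φ := by
  have hloc := local_structure hG
  set K := {C : Finset (Sylow 3 G) // (adjGraph G).IsNClique 10 C}
  have hK : Nat.card K = 11 := by
    rw [Nat.card_eq_fintype_card, Fintype.card_subtype]
    convert Cliques.card_cliques hloc using 2
  letI act : MulAction G K :=
    { smul := fun g C => ⟨g • C.1, clique_smul hG C.2 g⟩
      one_smul := fun C => Subtype.ext (one_smul G C.1)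
      mul_smul := fun g h C => Subtype.ext (mul_smul g h C.1) }
  let e : K ≃ Fin 11 := Finite.equivFinOfCardEq hK
  let φ : G →* Equiv.Perm (Fin 11) := e.permCongrHom.toMonoidHom.comp (MulAction.toPermHom G K)
  refine ⟨φ, ?_⟩
  have hinj : Function.Injective (MulAction.toPermHom G K) := by
    rw [← MonoidHom.ker_eq_bot_iff]
    rcases (MulAction.toPermHom G K).normal_ker.eq_bot_or_eq_top with h | h
    · exact h
    exfalso
    haveI : Nonempty K := (Nat.card_pos_iff.1 (by rw [hK]; norm_num)).1
    obtain ⟨C⟩ := ‹Nonempty K›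
    obtain ⟨v, hv⟩ := Finset.card_pos.1 (show 0 < C.1.card by rw [C.2.2]; norm_num)
    have hall : ∀ w, w ∈ C.1 := fun w => by
      obtain ⟨g, rfl⟩ := MulAction.exists_smul_eq G v w
      have hg : g ∈ (MulAction.toPermHom G K).ker := h ▸ Subgroup.mem_top g
      have hfix : (⟨g • C.1, clique_smul hG C.2 g⟩ : K) = C :=
        Equiv.ext_iff.1 (MonoidHom.mem_ker.1 hg) C
      rw [← congrArg Subtype.val hfix]
      exact Finset.smul_mem_smul_finset hv
    have := C.2.2
    rw [Finset.eq_univ_iff_forall.2 hall, Finset.card_univ, hloc.card55] at this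
    omega
  exact e.permCongrHom.injective.comp hinj

end Cfsg.Agent.M11Uniq
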