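import Cfsg.Agent.Lib.M11Uniq.Vertex

/-!
Simple groups of order 7920: the fixed points of involutions among the 55 Sylow subgroups for three.
-/

set_option linter.unusedSectionVars false
set_option linter.style.haveILetI false
set_option linter.unusedFintypeInType false

namespace Cfsg.Agent.M11Uniq

open Cfsg Cfsg.Agent.M11Local
open scoped Pointwise Classical

universe u

variable {G : Type u} [Group G] [Fintype G]

/-- The points inverted by an element. -/
noncomputable def invPts (t : G) : Finset (Sylow 3 G) := Finset.univ.filter fun v => Inv v t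

/-- The points fixed but not inverted by an element. -/
noncomputable def ctrPts (t : G) : Finset (Sylow 3 G) := Finset.univ.filter fun v => t • v = v ∧ ¬ Inv v t

theorem mem_invPts {t : G} {v : Sylow 3 G} : v ∈ invPts t ↔ Inv v t := by simp [invPts]

theorem mem_ctrPts {t : G} {v : Sylow 3 G} : v ∈ ctrPts t ↔ t • v = v ∧ ¬ Inv v t := by simp [ctrPts]

variable [IsSimpleGroup G] (hG : Nat.card G = 7920)

variable {v w : Sylow 3 G}

include hG

/-- Elements fixing a point without inverting there are at most twelve involutions. -/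
theorem card_ctr_le : (Finset.univ.filter fun t : G => orderOf t = 2 ∧ t • v = v ∧ ¬ Inv v t).card ≤ 12 := by
  haveI : Fact (Nat.Prime 3) := ⟨by norm_num⟩
  set A : Finset G := Finset.univ.filter fun t : G => orderOf t = 2 ∧ t • v = v ∧ ¬ Inv v t
  set Y : Finset G := Finset.univ.filter fun y : G => y ∈ (v : Subgroup G) ∧ y ≠ 1 with hY
  have hYc : Y.card = 8 := by
    have : Y = (Finset.univ.filter fun y : G => y ∈ (v : Subgroup G)).erase 1 := by
      ext y; simp [hY, and_comm]
    rw [this, Finset.card_erase_of_mem (by simp), ← Fintype.card_subtype, ← Nat.card_eq_fintype_card, card_P hG]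
  have key : A.card * 2 ≤ Y.card * 3 := by
    refine Finset.card_mul_le_card_mul (fun t y => t * y = y * t) (fun t ht => ?_) fun y hy => ?_
    · simp only [A, Finset.mem_filter, Finset.mem_univ, true_and] at ht
      obtain ⟨y, hy, hy1, hty⟩ := exists_fixed hG ht.1 ht.2.1 ht.2.2
      have hne : y ≠ y⁻¹ := fun h => hy1 (eq_one_of_self_inverse hG hy h)
      rw [← Finset.card_pair hne]
      refine Finset.card_le_card fun x hx => ?_
      simp only [Finset.mem_insert, Finset.mem_singleton] at hx
      simp only [Finset.bipartiteAbove, Y, Finset.mem_filter, Finset.mem_univ, true_and]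
      rcases hx with rfl | rfl
      · exact ⟨⟨hy, hy1⟩, hty⟩
      · exact ⟨⟨inv_mem hy, inv_ne_one.2 hy1⟩, ((show Commute t y from hty).inv_right).eq⟩
    · simp only [Y, Finset.mem_filter, Finset.mem_univ, true_and] at hy
      rcases (Finset.bipartiteBelow (fun t y => t * y = y * t) A y).eq_empty_or_nonempty with h | ⟨t₀, ht₀⟩
      · simp [h]
      simp only [Finset.bipartiteBelow, A, Finset.mem_filter, Finset.mem_univ, true_and] at ht₀
      obtain ⟨⟨ho₀, hv₀, -⟩, hc₀⟩ := ht₀
      have hi₀ := inv_of_orderOf_two ho₀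
      set K := Subgroup.normalizer ((v : Subgroup G) : Set G) ⊓ Subgroup.centralizer ({y} : Set G)
      have hK : Nat.card K = 18 := (point_facts hG hy.1 hy.2).1
      have hPK : (v : Subgroup G) ≤ K := le_inf Subgroup.le_normalizer fun x hx =>
        Subgroup.mem_centralizer_singleton_iff.2 (P_comm hG hx hy.1)
      have hidx : ((v : Subgroup G).subgroupOf K).index = 2 := by
        have h := ((v : Subgroup G).subgroupOf K).card_mul_index
        rw [Nat.card_congr (Subgroup.subgroupOfEquivOfLe hPK).toEquiv, card_P hG, hK] at h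
        omega
      -- the elements inverted by the first one
      let D : Subgroup G :=
        { carrier := {p | p ∈ (v : Subgroup G) ∧ t₀ * p * t₀⁻¹ = p⁻¹}
          mul_mem' := fun {a b} ha hb => ⟨mul_mem ha.1 hb.1, by
            rw [show t₀ * (a * b) * t₀⁻¹ = (t₀ * a * t₀⁻¹) * (t₀ * b * t₀⁻¹) by group, ha.2, hb.2, ← mul_inv_rev,
              P_comm hG hb.1 ha.1]⟩
          one_mem' := ⟨one_mem _, by group⟩
          inv_mem' := fun {a} ha => ⟨inv_mem ha.1, by
            rw [show t₀ * a⁻¹ * t₀⁻¹ = (t₀ * a * t₀⁻¹)⁻¹ by group, ha.2]⟩ }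
      have hD : Nat.card D ≤ 3 := by
        have hle : D ≤ (v : Subgroup G) := fun p hp => hp.1
        have hd : Nat.card D ∣ 9 := card_P hG (P := v) ▸ Subgroup.card_dvd_of_le hle
        have hne : Nat.card D ≠ 9 := fun h => by
          have hyD : y ∈ D := (Subgroup.eq_of_le_of_card_ge hle (by rw [card_P hG, h])).symm ▸ hy.1
          have e : t₀ * y * t₀⁻¹ = y⁻¹ := hyD.2
          rw [hc₀, mul_inv_cancel_right] at e
          exact hy.2 (eq_one_of_self_inverse hG hy.1 e)
        have := Nat.le_of_dvd (by norm_num) hd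
        interval_cases Nat.card D <;> omega
      refine le_trans ?_ hD
      rw [← Finset.card_image_of_injective _ (mul_right_injective t₀), Nat.card_eq_fintype_card, Fintype.card_subtype]
      refine Finset.card_le_card fun p hp => ?_
      simp only [Finset.mem_image, Finset.bipartiteBelow, A, Finset.mem_filter, Finset.mem_univ, true_and] at hp
      obtain ⟨t, ⟨⟨ho, hv, -⟩, hc⟩, rfl⟩ := hp
      have hmem : ∀ {s : G}, orderOf s = 2 → s • v = v → s * y = y * s → s ∈ K ∧ s ∉ (v : Subgroup G) :=
        fun {s} h1 h2 h3 => ⟨⟨Sylow.smul_eq_iff_mem_normalizer.1 h2, Subgroup.mem_centralizer_singleton_iff.2 h3⟩,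
          orderOf_two_notMem hG h1⟩
      have hP : t₀ * t ∈ (v : Subgroup G) := by
        have hi := (Subgroup.mul_mem_iff_of_index_two hidx (a := ⟨t₀, (hmem ho₀ hv₀ hc₀).1⟩)
          (b := ⟨t, (hmem ho hv hc).1⟩))
        simp only [Subgroup.mem_subgroupOf, Subgroup.coe_mul] at hi
        exact hi.2 (iff_of_false (hmem ho₀ hv₀ hc₀).2 (hmem ho hv hc).2)
      simp only [Finset.mem_filter, Finset.mem_univ, true_and]
      refine ⟨hP, ?_⟩
      rw [hi₀, mul_inv_rev, hi₀, inv_of_orderOf_two ho, ← mul_assoc, mul_self_of_orderOf_two ho₀, one_mul]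
  rw [hYc] at key
  omega

theorem card_invol : (Finset.univ.filter fun t : G => orderOf t = 2).card = 165 := by
  haveI : Fact (Nat.Prime 2) := ⟨Nat.prime_two⟩
  obtain ⟨t, ht⟩ := exists_prime_orderOf_dvd_card' 2 (show 2 ∣ Nat.card G by rw [hG]; norm_num)
  set A := Finset.univ.filter fun t : G => orderOf t = 2
  have hA : ∀ g ∈ (Finset.univ : Finset G), g * t * g⁻¹ ∈ A := fun g _ => by
    simp [A, orderOf_conj, ht]
  have hfib : ∀ s ∈ A, (Finset.univ.filter fun g : G => g * t * g⁻¹ = s).card = 48 := by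
    intro s hs
    simp only [A, Finset.mem_filter, Finset.mem_univ, true_and] at hs
    obtain ⟨c, rfl⟩ := isConj_iff.1 (isConj_involution hG ht hs)
    rw [← card_centralizer_involution hG ht, ← Fintype.card_subtype, ← Nat.card_eq_fintype_card]
    refine Nat.card_congr (Equiv.subtypeEquiv (Equiv.mulLeft c⁻¹) fun g => ?_)
    rw [Subgroup.mem_centralizer_singleton_iff, Equiv.coe_mulLeft]
    constructor
    · intro h
      calc c⁻¹ * g * t = c⁻¹ * (g * t * g⁻¹) * g := by group
        _ = t * (c⁻¹ * g) := by rw [h]; group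
    · intro h
      calc g * t * g⁻¹ = c * (c⁻¹ * g * t) * g⁻¹ := by group
        _ = c * t * c⁻¹ := by rw [h]; group
  have h := Finset.card_eq_sum_card_fiberwise hA
  rw [Finset.sum_congr rfl hfib, Finset.sum_const, Finset.card_univ, ← Nat.card_eq_fintype_card, hG, smul_eq_mul] at h
  omega

theorem smul_invPts {t : G} (c : G) : invPts (c * t * c⁻¹) = (invPts t).image (c • ·) := by
  ext v
  simp only [mem_invPts, Finset.mem_image]
  constructor
  · intro h
    refine ⟨c⁻¹ • v, ?_, smul_inv_smul c v⟩
    have := h.smul c⁻¹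
    rwa [show c⁻¹ * (c * t * c⁻¹) * c⁻¹⁻¹ = t by group] at this
  · rintro ⟨w, hw, rfl⟩; exact hw.smul c

theorem smul_ctrPts {t : G} (c : G) : ctrPts (c * t * c⁻¹) = (ctrPts t).image (c • ·) := by
  ext v
  simp only [mem_ctrPts, Finset.mem_image]
  constructor
  · rintro ⟨hf, hn⟩
    refine ⟨c⁻¹ • v, ⟨?_, fun h => hn ?_⟩, smul_inv_smul c v⟩
    · calc t • c⁻¹ • v = c⁻¹ • ((c * t * c⁻¹) • v) := by simp [← mul_smul, mul_assoc]
        _ = c⁻¹ • v := by rw [hf]
    · have := h.smul c
      rwa [smul_inv_smul] at this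
  · rintro ⟨w, ⟨hf, hn⟩, rfl⟩
    refine ⟨?_, fun h => hn ?_⟩
    · calc (c * t * c⁻¹) • c • w = c • t • w := by simp [← mul_smul, mul_assoc]
        _ = c • w := by rw [hf]
    · have := h.smul c⁻¹
      rwa [inv_smul_smul, show c⁻¹ * (c * t * c⁻¹) * c⁻¹⁻¹ = t by group] at this

/-- Each involution inverts exactly three of the subgroups. -/
theorem card_invPts {t : G} (ht : orderOf t = 2) : (invPts t).card = 3 := by
  set A := Finset.univ.filter fun t : G => orderOf t = 2
  have h := Finset.card_mul_eq_card_mul (fun (v : Sylow 3 G) s => Inv v s) (s := Finset.univ) (t := A) (m := 9)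
    (n := (invPts t).card) (fun v _ => ?_) fun s hs => ?_
  · rw [Finset.card_univ, ← Nat.card_eq_fintype_card, card_omega hG, card_invol hG] at h
    omega
  · rw [← card_inv hG (v := v), Nat.card_eq_fintype_card, Fintype.card_subtype]
    congr 1
    ext s
    simp only [Finset.bipartiteAbove, A, Finset.mem_filter, Finset.mem_univ, true_and]
    exact ⟨fun h => h.2, fun h => ⟨h.1, h⟩⟩
  · simp only [A, Finset.mem_filter, Finset.mem_univ, true_and] at hs
    obtain ⟨c, rfl⟩ := isConj_iff.1 (isConj_involution hG ht hs)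
    rw [← Finset.card_image_of_injective (invPts t) (MulAction.injective c), ← smul_invPts hG c]
    congr 1

/-- An involution fixes at most four further subgroups. -/
theorem card_ctrPts {t : G} (ht : orderOf t = 2) : (ctrPts t).card ≤ 4 := by
  set A := Finset.univ.filter fun t : G => orderOf t = 2
  have h := Finset.card_mul_le_card_mul (fun s (v : Sylow 3 G) => s • v = v ∧ ¬ Inv v s) (s := A)
    (t := Finset.univ) (m := (ctrPts t).card) (n := 12) (fun s hs => ?_) fun v _ => ?_
  · rw [Finset.card_univ, ← Nat.card_eq_fintype_card, card_omega hG, card_invol hG] at h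
    omega
  · simp only [A, Finset.mem_filter, Finset.mem_univ, true_and] at hs
    obtain ⟨c, rfl⟩ := isConj_iff.1 (isConj_involution hG ht hs)
    rw [← Finset.card_image_of_injective (ctrPts t) (MulAction.injective c), ← smul_ctrPts hG c]
    exact le_of_eq (congrArg Finset.card rfl)
  · refine (Finset.card_le_card fun s hs => ?_).trans (card_ctr_le hG (v := v))
    simp only [Finset.bipartiteBelow, A, Finset.mem_filter, Finset.mem_univ, true_and] at hs ⊢
    exact hs

/-- Two commuting involutions have no common centralising element of order three. -/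
theorem no_four {y s t : G} (hy : orderOf y = 3) (hs : orderOf s = 2) (ht : orderOf t = 2) (hst : s ≠ t)
    (hcs : y * s = s * y) (hct : y * t = t * y) (hc : s * t = t * s) : False := by
  have hu : orderOf (t * s) = 2 := orderOf_two_of
    (by rw [show t * s * (t * s) = t * (s * t) * s by group, hc, ← mul_assoc t t s, mul_self_of_orderOf_two ht,
      one_mul, mul_self_of_orderOf_two hs])
    fun h => hst ((inv_of_orderOf_two ht) ▸ (eq_inv_of_mul_eq_one_right h))
  have key : ∀ a b : G, orderOf a = 2 → orderOf b = 2 → a ≠ b → y * a = a * y → y * b = b * y →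
      a * b = b * a → invPts a ⊆ ctrPts b := by
    intro a b ha hb hab hya hyb hcomm
    have hA := card_invPts hG ha
    have hmove : ∀ w ∈ invPts a, y • w ≠ w := by
      intro w hw h
      have hyw := mem_of_order_three hG hy h
      have e := (mem_invPts.1 hw).2 y hyw
      rw [← hya, mul_inv_cancel_right] at e
      exact ne_one_of_orderOf hy (by norm_num) (eq_one_of_self_inverse hG hyw e)
    have hinv : ∀ c : G, c * a * c⁻¹ = a → ∀ w ∈ invPts a, c • w ∈ invPts a := fun c hc w hw => by
      have h := (mem_invPts.1 hw).smul c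
      rw [hc] at h
      exact mem_invPts.2 h
    have hbb : b * b = 1 := mul_self_of_orderOf_two hb
    have hba : b * a * b⁻¹ = a := by rw [← hcomm, mul_inv_cancel_right]
    have hyy : y * a * y⁻¹ = a := by rw [hya, mul_inv_cancel_right]
    obtain ⟨w, hw, hwb⟩ := exists_fixed_three hA (b • ·) (fun x hx => hinv b hba x hx)
      fun x _ => by show b • b • x = x; rw [← mul_smul, hbb, one_smul]
    have h1 := hinv y hyy w hw
    have h2 := hinv y hyy _ h1
    have hthree : invPts a = {w, y • w, y • y • w} := by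
      refine (Finset.eq_of_subset_of_card_le (fun x hx => ?_) ?_).symm
      · simp only [Finset.mem_insert, Finset.mem_singleton] at hx
        rcases hx with rfl | rfl | rfl
        exacts [hw, h1, h2]
      · have e1 : w ≠ y • w := fun h => hmove w hw h.symm
        have e2 : y • w ≠ y • y • w := fun h => hmove _ h1 h.symm
        have e3 : w ≠ y • y • w := fun h => hmove w hw (by
          calc y • w = y • y • y • w := by rw [← h]
            _ = (y * (y * y)) • w := by rw [mul_smul, mul_smul]
            _ = w := by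
              rw [show y * (y * y) = 1 by
                rw [← pow_two, ← pow_succ', show (2 + 1 : ℕ) = orderOf y by rw [hy], pow_orderOf_eq_one], one_smul])
        rw [hA, Finset.card_eq_three.2 ⟨w, y • w, y • y • w, e1, e3, e2, rfl⟩]
    intro x hx
    refine mem_ctrPts.2 ⟨?_, fun hxb => hab (inv_comm_eq hG (mem_invPts.1 hx) hxb hcomm)⟩
    have hsw : ∀ z : Sylow 3 G, b • y • z = y • b • z := fun z => by rw [← mul_smul, ← mul_smul, hyb]
    rw [hthree] at hx
    simp only [Finset.mem_insert, Finset.mem_singleton] at hx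
    rcases hx with rfl | rfl | rfl
    · exact hwb
    · rw [hsw]; exact congrArg _ hwb
    · rw [hsw, hsw]; exact congrArg _ (congrArg _ hwb)
  have hsu : s * (t * s) = (t * s) * s := by rw [← mul_assoc, hc]
  have htu : t * (t * s) = (t * s) * t := by rw [mul_assoc t s t, hc]
  have h1 := key t s ht hs hst.symm hct hcs hc.symm
  have h2 := key (t * s) s hu hs (fun h => ne_one_of_orderOf ht (by norm_num) (mul_eq_right.1 h))
    (by rw [← mul_assoc, hct, mul_assoc, hcs, mul_assoc]) hcs hsu.symm
  have hd : Disjoint (invPts t) (invPts (t * s)) := Finset.disjoint_left.2 fun x hx hx' =>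
    ne_one_of_orderOf hs (by norm_num)
      (left_eq_mul.1 (inv_comm_eq hG (mem_invPts.1 hx) (mem_invPts.1 hx') htu))
  have := Finset.card_le_card (Finset.union_subset h1 h2)
  rw [Finset.card_union_of_disjoint hd, card_invPts hG ht, card_invPts hG hu] at this
  have := card_ctrPts hG hs
  omega

/-- The Sylow subgroups for three meet trivially. -/
theorem ti (hvw : v ≠ w) {y : G} (hyv : y ∈ (v : Subgroup G)) (hyw : y ∈ (w : Subgroup G)) : y = 1 := by
  by_contra hy1
  haveI : Fact (Nat.Prime 2) := ⟨Nat.prime_two⟩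
  haveI : Fact (Nat.Prime 3) := ⟨by norm_num⟩
  have hy3 := orderOf_three hG hyv hy1
  set C := Subgroup.centralizer ({y} : Set G) with hC
  have hvC : (v : Subgroup G) ≤ C := fun x hx => Subgroup.mem_centralizer_singleton_iff.2 (P_comm hG hx hyv)
  have hwC : (w : Subgroup G) ≤ C := fun x hx => Subgroup.mem_centralizer_singleton_iff.2 (P_comm hG hx hyw)
  have hcard : Nat.card C ∣ 144 := by
    refine card_dvd_sixteen_mul hG (fun x hx h => ?_) (fun x hx h => ?_)
    · have := Subgroup.orderOf_dvd_natCard _ (Subgroup.mem_centralizer_singleton_iff.2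
        (Subgroup.mem_centralizer_singleton_iff.1 hx).symm : y ∈ Subgroup.centralizer ({x} : Set G))
      rw [centralizer_five hG h, hy3] at this; norm_num at this
    · have := Subgroup.orderOf_dvd_natCard _ (Subgroup.mem_centralizer_singleton_iff.2
        (Subgroup.mem_centralizer_singleton_iff.1 hx).symm : y ∈ Subgroup.centralizer ({x} : Set G))
      rw [centralizer_eleven hG h, hy3] at this; norm_num at this
  obtain ⟨n, hn1, hn2⟩ := sylow_mod hvC v.2 (by
    rw [card_P hG]; intro h; exact absurd (h.trans hcard) (by norm_num))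
  have hCN : Nat.card ↥(C ⊓ Subgroup.normalizer ((v : Subgroup G) : Set G)) = 18 := by
    rw [inf_comm]; exact (point_facts hG hyv hy1).1
  rw [hCN] at hn2
  have hn8 : n ∣ 8 := Nat.dvd_of_mul_dvd_mul_right (show 0 < 18 by norm_num)
    (show n * 18 ∣ 8 * 18 by rw [hn2]; exact hcard)
  have hn : n = 4 := by
    have := Nat.le_of_dvd (by norm_num) hn8
    by_contra hne
    have : n = 1 := by interval_cases n <;> omega
    subst this
    have heq : C ⊓ Subgroup.normalizer ((v : Subgroup G) : Set G) = C :=
      Subgroup.eq_of_le_of_card_ge inf_le_left (by rw [hCN, ← hn2])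
    refine hvw (Sylow.ext (Subgroup.eq_of_le_of_card_ge (fun x hx => ?_) (le_of_eq ?_))).symm
    · by_cases hx1 : x = 1
      · rw [hx1]; exact one_mem _
      exact mem_of_order_three hG (orderOf_three hG hx hx1)
        (Sylow.smul_eq_iff_mem_normalizer.2 (heq.symm ▸ hwC hx).2)
    · exact (card_P hG (P := v)).trans (card_P hG (P := w)).symm
  subst hn
  obtain ⟨D', hD'⟩ := Sylow.exists_subgroup_card_pow_prime 2 (G := C) (n := 3) (by rw [← hn2]; norm_num)
  set D := D'.map C.subtype
  have hD : Nat.card D = 8 := (Subgroup.card_map_of_injective C.subtype_injective).trans hD'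
  have hDC : D ≤ C := Subgroup.map_subtype_le _
  have hDy : ∀ d ∈ D, y * d = d * y := fun d hd => (Subgroup.mem_centralizer_singleton_iff.1 (hDC hd)).symm
  haveI : Nontrivial D := Finite.one_lt_card_iff_nontrivial.1 (by rw [hD]; norm_num)
  have hDp : IsPGroup 2 D := IsPGroup.of_card (n := 3) hD
  haveI := hDp.center_nontrivial
  obtain ⟨k, hk, hkc⟩ := (hDp.to_subgroup (Subgroup.center D)).nontrivial_iff_card.1 inferInstance
  obtain ⟨c', hc'⟩ := exists_prime_orderOf_dvd_card' 2 (show 2 ∣ Nat.card (Subgroup.center D) by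
    rw [hkc]; exact dvd_pow_self 2 hk.ne')
  set c : G := ((c' : D) : G) with hcdef
  have hc : orderOf c = 2 := by rw [hcdef, Subgroup.orderOf_coe, Subgroup.orderOf_coe, hc']
  have hcD : c ∈ D := (c' : D).2
  have hcen : ∀ d ∈ D, d * c = c * d := fun d hd =>
    congrArg Subtype.val (Subgroup.mem_center_iff.1 c'.2 ⟨d, hd⟩)
  have huniq : ∀ u ∈ D, orderOf u = 2 → u = c := fun u hu hu2 => by
    by_contra hne
    exact no_four hG hy3 hu2 hc hne (hDy u hu) (hDy c hcD) (hcen u hu)
  have hstab : Nat.card (MulAction.stabilizer C v) = 18 := by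
    rw [← hCN, ← Nat.card_congr (Subgroup.subgroupOfEquivOfLe
      (inf_le_left : C ⊓ Subgroup.normalizer ((v : Subgroup G) : Set G) ≤ C)).toEquiv]
    refine Nat.card_congr (Equiv.subtypeEquivRight fun g => ?_)
    rw [MulAction.mem_stabilizer_iff, Subgroup.mem_subgroupOf, Subgroup.mem_inf]
    exact ⟨fun h => ⟨g.2, Sylow.smul_eq_iff_mem_normalizer.1 h⟩, fun h => Sylow.smul_eq_iff_mem_normalizer.2 h.2⟩
  have hOC : Nat.card (MulAction.orbit C v) = 4 := by
    have h := MulAction.card_orbit_mul_card_stabilizer_eq_card_group C v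
    rw [← Nat.card_eq_fintype_card, ← Nat.card_eq_fintype_card, ← Nat.card_eq_fintype_card, hstab, ← hn2] at h
    omega
  have hOD : Nat.card (MulAction.orbit D v) * Nat.card (MulAction.stabilizer D v) = 8 := by
    rw [Nat.card_eq_fintype_card, Nat.card_eq_fintype_card, MulAction.card_orbit_mul_card_stabilizer_eq_card_group,
      ← Nat.card_eq_fintype_card, hD]
  have hsub : MulAction.orbit D v ⊆ MulAction.orbit C v := by
    rintro _ ⟨d, rfl⟩; exact ⟨⟨d, hDC d.2⟩, rfl⟩
  have hle4 : Nat.card (MulAction.orbit D v) ≤ 4 := hOC ▸ Nat.card_mono (Set.toFinite _) hsub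
  have hle2 : Nat.card (MulAction.stabilizer D v) ≤ 2 := by
    have h1 : Nat.card (MulAction.stabilizer D v) ∣ 8 := hD ▸ Subgroup.card_subgroup_dvd_card _
    have h2 : Nat.card (MulAction.stabilizer D v) ∣ 18 := by
      rw [← hCN, ← Subgroup.card_map_of_injective D.subtype_injective]
      refine Subgroup.card_dvd_of_le ?_
      rintro _ ⟨d, hd, rfl⟩
      exact ⟨hDC d.2, Sylow.smul_eq_iff_mem_normalizer.1 hd⟩
    exact Nat.le_of_dvd (by norm_num) (Nat.dvd_gcd h1 h2)
  have hst2 : Nat.card (MulAction.stabilizer D v) = 2 ∧ Nat.card (MulAction.orbit D v) = 4 := by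
    interval_cases h : Nat.card (MulAction.stabilizer D v) <;> omega
  have hcv : c • v = v := by
    obtain ⟨u, hu⟩ := exists_prime_orderOf_dvd_card' 2 (show 2 ∣ Nat.card (MulAction.stabilizer D v) by rw [hst2.1])
    have h := huniq ((u : D) : G) (u : D).2 (by rw [Subgroup.orderOf_coe, Subgroup.orderOf_coe, hu])
    rw [← h]
    exact u.2
  have horb : MulAction.orbit D v = MulAction.orbit C v :=
    Set.eq_of_subset_of_ncard_le hsub (by rw [← Nat.card_coe_set_eq, ← Nat.card_coe_set_eq, hOC, hst2.2])
      (Set.toFinite _)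
  have hall : ∀ g ∈ C, c • g • v = g • v := fun g hg => by
    obtain ⟨d, hd⟩ : g • v ∈ MulAction.orbit D v := horb.symm ▸ ⟨⟨g, hg⟩, rfl⟩
    rw [← hd]
    show c • (d : G) • v = (d : G) • v
    rw [← mul_smul, ← hcen d d.2, mul_smul, hcv]
  obtain ⟨w', ⟨g₀, hg₀⟩, hne⟩ : ∃ w' ∈ MulAction.orbit C v, w' ≠ v := by
    by_contra hcon
    push_neg at hcon
    have : MulAction.orbit C v ⊆ {v} := fun x hx => hcon x hx
    have := Nat.card_mono (Set.toFinite _) this
    rw [hOC] at this
    simp at this
  have hi := inv_of_orderOf_two hc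
  have hcc := mul_self_of_orderOf_two hc
  refine orderOf_two_notMem hG hc (mem_of_centralizes hG (v := v) fun g hg => ?_)
  have hq : c * g * c⁻¹ * g⁻¹ ∈ (v : Subgroup G) := mul_mem (conj_mem_of_fix hcv hg) (inv_mem hg)
  have hqw : (c * g * c⁻¹ * g⁻¹) • w' = w' := by
    subst hg₀
    show (c * g * c⁻¹ * g⁻¹) • (g₀ : G) • v = (g₀ : G) • v
    have h1 : c⁻¹ • g⁻¹ • (g₀ : G) • v = g⁻¹ • (g₀ : G) • v := by
      rw [hi, ← mul_smul g⁻¹]
      exact hall _ (mul_mem (inv_mem (hvC hg)) g₀.2)
    rw [mul_smul, mul_smul, mul_smul, h1, smul_inv_smul, hall _ g₀.2]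
  have hqy : c * g * c⁻¹ * g⁻¹ ∈ Subgroup.zpowers y := by
    by_cases h1 : c * g * c⁻¹ * g⁻¹ = 1
    · rw [h1]; exact one_mem _
    have hqw' := mem_of_order_three hG (orderOf_three hG hq h1) hqw
    have hyw' : y ∈ (w' : Subgroup G) := by
      subst hg₀
      show y ∈ (((g₀ : G) • v : Sylow 3 G) : Subgroup G)
      rw [mem_smul_sylow, mul_assoc, ← Subgroup.mem_centralizer_singleton_iff.1 g₀.2, inv_mul_cancel_left]
      exact hyv
    by_contra hout
    have hI : ((v : Subgroup G) ⊓ (w' : Subgroup G)) = (v : Subgroup G) := by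
      refine Subgroup.eq_of_le_of_card_ge inf_le_left ?_
      have hd : Nat.card ↥((v : Subgroup G) ⊓ (w' : Subgroup G)) ∣ 9 :=
        card_P hG (P := v) ▸ Subgroup.card_dvd_of_le inf_le_left
      have hlt : Nat.card (Subgroup.zpowers y) < Nat.card ↥((v : Subgroup G) ⊓ (w' : Subgroup G)) := by
        have hle : Subgroup.zpowers y ≤ (v : Subgroup G) ⊓ (w' : Subgroup G) := Subgroup.zpowers_le.2 ⟨hyv, hyw'⟩
        by_contra hh
        exact hout ((Subgroup.eq_of_le_of_card_ge hle (not_lt.1 hh)).symm ▸
          (⟨hq, hqw'⟩ : c * g * c⁻¹ * g⁻¹ ∈ (v : Subgroup G) ⊓ (w' : Subgroup G)))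
      rw [Nat.card_zpowers, hy3] at hlt
      have := Nat.le_of_dvd (by norm_num) hd
      rw [card_P hG]
      interval_cases Nat.card ↥((v : Subgroup G) ⊓ (w' : Subgroup G)) <;> omega
    refine hne (Sylow.ext (Subgroup.eq_of_le_of_card_ge ?_ (le_of_eq ?_))).symm
    · exact hI ▸ inf_le_right
    · exact (card_P hG (P := w')).trans (card_P hG (P := v)).symm
  have e : c * (c * g * c⁻¹ * g⁻¹) * c⁻¹ = (c * g * c⁻¹ * g⁻¹)⁻¹ := by
    rw [hi]
    calc c * (c * g * c * g⁻¹) * c = (c * c) * g * c * g⁻¹ * c := by group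
      _ = g * c * g⁻¹ * c := by rw [hcc, one_mul]
      _ = (c * g * c * g⁻¹)⁻¹ := by rw [mul_inv_rev, mul_inv_rev, mul_inv_rev, hi, inv_inv]; group
  have hcomm : c * (c * g * c⁻¹ * g⁻¹) = (c * g * c⁻¹ * g⁻¹) * c := by
    obtain ⟨i, hi'⟩ := Subgroup.mem_zpowers_iff.1 hqy
    rw [← hi']
    exact ((show Commute c y from (hDy c hcD).symm).zpow_right i).eq
  rw [hcomm, mul_inv_cancel_right] at e
  exact mul_inv_eq_one.1 (eq_one_of_self_inverse hG hq e)

end Cfsg.Agent.M11Uniq
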