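import Cfsg.Agent.Lib.M11Uniq.Embed

/-!
The simple group of order 7920 is unique up to isomorphism: generators on eleven points.
-/

set_option linter.unusedSectionVars false
set_option linter.style.haveILetI false
set_option maxRecDepth 20000

namespace Cfsg.Agent.M11Uniq

open Cfsg Cfsg.Agent.M11Local

open scoped Fin.NatCast Fin.CommRing

universe u

namespace Eleven

abbrev S11 : Type := Equiv.Perm (Fin 11)

/-- The cycle of length eleven. -/
def sig : S11 := ⟨fun x => x + 1, fun x => x + 10, by decide, by decide⟩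

/-- Multiplication by three. -/
def tau : S11 := ⟨fun x => 3 * x, fun x => 4 * x, by decide, by decide⟩

/-- Multiplication by seven. -/
def mu : S11 := ⟨fun x => 7 * x, fun x => 8 * x, by decide, by decide⟩

/-- The third generator. -/
def gen : S11 :=
  ⟨![0, 1, 6, 9, 5, 3, 10, 2, 8, 4, 7], ![0, 1, 7, 5, 9, 4, 2, 10, 8, 3, 6], by decide, by decide⟩

/-- The standard group. -/
def std : Subgroup S11 := Subgroup.closure {sig, tau, gen}

/-- A map taking the action of three to the action of nine, from two values. -/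
def tab (a b : Fin 11) : Fin 11 → Fin 11 :=
  ![0, a, b, 9 * a, 5 * a, 3 * a, 9 * b, 4 * b, 5 * b, 4 * a, 3 * b]

theorem sig_pow (n : ℕ) : ∀ x : Fin 11, (sig ^ n) x = x + (n : Fin 11) := by
  induction n with
  | zero => intro x; simp
  | succ n ih =>
    intro x
    rw [pow_succ, Equiv.Perm.mul_apply, ih]
    show x + 1 + (n : Fin 11) = _
    push_cast
    ring

theorem tau_pow (n : ℕ) : ∀ x : Fin 11, (tau ^ n) x = 3 ^ n * x := by
  induction n with
  | zero => intro x; simp
  | succ n ih =>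
    intro x
    rw [pow_succ, Equiv.Perm.mul_apply, ih]
    show 3 ^ n * (3 * x) = _
    ring

theorem affine {t : S11} {k : Fin 11} (h : ∀ x, t (x + 1) = t x + k) : ∀ x, t x = k * x + t 0 := by
  have key : ∀ n : ℕ, t (n : Fin 11) = k * (n : Fin 11) + t 0 := by
    intro n
    induction n with
    | zero => simp
    | succ n ih =>
      push_cast
      rw [h, ih]
      ring
  intro x
  have := key x
  rwa [Fin.cast_val_eq_self] at this

theorem eq_tab {c : S11} (h : ∀ x, c (3 * x) = 9 * c x) : ⇑c = tab (c 1) (c 2) := by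
  have p3 : c 3 = 9 * c 1 := h 1
  have p9 : c 9 = 4 * c 1 := by
    rw [show (9 : Fin 11) = 3 * 3 by decide, h, p3, ← mul_assoc]; congr 1
  have p5 : c 5 = 3 * c 1 := by
    rw [show (5 : Fin 11) = 3 * 9 by decide, h, p9, ← mul_assoc]; congr 1
  have p4 : c 4 = 5 * c 1 := by
    rw [show (4 : Fin 11) = 3 * 5 by decide, h, p5, ← mul_assoc]; congr 1
  have p6 : c 6 = 9 * c 2 := h 2
  have p7 : c 7 = 4 * c 2 := by
    rw [show (7 : Fin 11) = 3 * 6 by decide, h, p6, ← mul_assoc]; congr 1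
  have p10 : c 10 = 3 * c 2 := by
    rw [show (10 : Fin 11) = 3 * 7 by decide, h, p7, ← mul_assoc]; congr 1
  have p8 : c 8 = 5 * c 2 := by
    rw [show (8 : Fin 11) = 3 * 10 by decide, h, p10, ← mul_assoc]; congr 1
  have p0 : c 0 = 0 := by
    have h0 := h 0
    rw [mul_zero] at h0
    have key : ∀ z : Fin 11, z = 9 * z → z = 0 := by decide
    exact key _ h0
  funext x
  fin_cases x
  exacts [p0, rfl, rfl, p3, p4, p5, p6, p7, p8, p9, p10]

theorem cand_check : ∀ a b : Fin 11, (a = 1 ∨ a = 2) → Function.Injective (tab a b) →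
    (a = 1 ∧ (b = 2 ∨ b = 6 ∨ b = 7 ∨ b = 8 ∨ b = 10)) ∨
      (a = 2 ∧ (b = 1 ∨ b = 3 ∨ b = 4 ∨ b = 5 ∨ b = 9)) := by
  decide

theorem shift_check : ∀ a : Fin 11, a ≠ 0 → ∃ j : Fin 5, 3 ^ (j : ℕ) * a = 1 ∨ 3 ^ (j : ℕ) * a = 2 := by decide

theorem root_check : ∀ k : Fin 11, k ^ 5 = 1 → k ≠ 1 → ∃ j : Fin 5, k ^ (j : ℕ) = 3 := by decide

theorem perm_iter (w : S11) (n : ℕ) (x : Fin 11) : (w ^ n) x = (⇑w)^[n] x := by
  rw [Equiv.Perm.coe_pow]

theorem mu_sig : mu * sig * mu⁻¹ = sig ^ 7 := by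
  ext x; revert x; decide

theorem mu_tau : mu * tau * mu⁻¹ = tau := by
  ext x; revert x; decide

theorem mu_gen : ⇑(mu * gen * mu⁻¹) = tab 1 10 := by
  funext x; revert x; decide

theorem gen_tab : ⇑gen = tab 1 6 := by
  funext x; revert x; decide

theorem sig_pow_eight : (sig ^ 7) ^ 8 = sig := by
  ext x
  rw [← pow_mul, sig_pow]
  revert x; decide

theorem map_std : std.map (MulAut.conj mu).toMonoidHom = Subgroup.closure {sig, tau, mu * gen * mu⁻¹} := by
  rw [std, MonoidHom.map_closure]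
  simp only [Set.image_insert_eq, Set.image_singleton, MulEquiv.coe_toMonoidHom, MulAut.conj_apply, mu_sig, mu_tau]
  apply le_antisymm <;> rw [Subgroup.closure_le] <;> rintro x (rfl | rfl | rfl)
  · exact pow_mem (Subgroup.subset_closure (by simp)) 7
  · exact Subgroup.subset_closure (by simp)
  · exact Subgroup.subset_closure (by simp)
  · rw [SetLike.mem_coe]
    conv => arg 2; rw [← sig_pow_eight]
    exact pow_mem (Subgroup.subset_closure (by simp)) 8
  · exact Subgroup.subset_closure (by simp)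
  · exact Subgroup.subset_closure (by simp)

theorem cycleType_of_order {a : S11} (ha : orderOf a = 11) : a.cycleType = {11} := by
  obtain ⟨n, hn⟩ := Equiv.Perm.cycleType_prime_order (by rw [ha]; norm_num : (orderOf a).Prime)
  have hs := Equiv.Perm.sum_cycleType a
  have hle := a.support.card_le_univ
  rw [← hs, hn, ha, Multiset.sum_replicate, smul_eq_mul, Fintype.card_fin] at hle
  have : n = 0 := by omega
  subst this
  rw [hn, ha]
  rfl

theorem orderOf_sig : orderOf sig = 11 := by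
  haveI : Fact (Nat.Prime 11) := ⟨by norm_num⟩
  refine orderOf_eq_prime (Equiv.ext fun x => ?_) fun h => ?_
  · rw [sig_pow]; revert x; decide
  · exact absurd (congrArg (fun p : S11 => p 0) h) (by decide)

end Eleven

open Eleven

variable {G : Type u} [Group G] [Fintype G] [IsSimpleGroup G] (hG : Nat.card G = 7920)

include hG

/-- The three generators lie in the image after a renumbering of a given action. -/
theorem exists_generators {φ₀ : G →* S11} (hφ₀ : Function.Injective φ₀) :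
    ∃ (π : S11) (φ : G →* S11), φ = (MulAut.conj π).toMonoidHom.comp φ₀ ∧ Function.Injective φ ∧
      sig ∈ φ.range ∧ tau ∈ φ.range ∧
      ∃ c : S11, c ∈ φ.range ∧ c * tau * c⁻¹ = tau ^ 2 ∧ (c 1 = 1 ∨ c 1 = 2) := by
  classical
  haveI : Fact (Nat.Prime 11) := ⟨by norm_num⟩
  haveI : Fact (Nat.Prime 5) := ⟨by norm_num⟩
  obtain ⟨s, hs⟩ := exists_prime_orderOf_dvd_card' 11 (show 11 ∣ Nat.card G by rw [hG]; norm_num)
  obtain ⟨π, hπ⟩ := isConj_iff.1 (Equiv.Perm.isConj_iff_cycleType_eq.2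
    (show (φ₀ s).cycleType = sig.cycleType by
      rw [cycleType_of_order (by rw [orderOf_injective φ₀ hφ₀, hs]), cycleType_of_order orderOf_sig]))
  set φ : G →* S11 := (MulAut.conj π).toMonoidHom.comp φ₀
  have hφ : Function.Injective φ := (MulAut.conj π).injective.comp hφ₀
  have hsig : φ s = sig := hπ
  refine ⟨π, φ, rfl, hφ, ⟨s, hsig⟩, ?_⟩
  set Ns := Subgroup.normalizer (Subgroup.zpowers s : Set G)
  obtain ⟨t, ht⟩ := exists_prime_orderOf_dvd_card' 5 (show 5 ∣ Nat.card Ns by
    rw [card_normalizer_eleven hG hs]; norm_num)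
  rw [← Subgroup.orderOf_coe] at ht
  have hmem : (t : G) * s * (t : G)⁻¹ ∈ Subgroup.zpowers s :=
    (Subgroup.mem_normalizer_iff.1 t.2 s).1 (Subgroup.mem_zpowers s)
  rw [← mem_powers_iff_mem_zpowers] at hmem
  obtain ⟨k, hk⟩ := hmem
  replace hk : (t : G) * s * (t : G)⁻¹ = s ^ k := hk.symm
  have hT : φ t * sig = sig ^ k * φ t := by
    rw [← hsig, ← map_mul, ← map_pow, ← map_mul, ← hk]
    congr 1
    group
  have haff : ∀ x, φ t x = (k : Fin 11) * x + φ t 0 := affine fun x => by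
    have := Equiv.ext_iff.1 hT x
    rw [Equiv.Perm.mul_apply, Equiv.Perm.mul_apply, sig_pow] at this
    exact this
  have hpow : ∀ (n : ℕ) x, (φ t ^ n) x = (k : Fin 11) ^ n * x + (φ t ^ n) 0 := by
    intro n
    induction n with
    | zero => intro x; simp
    | succ n ih =>
      intro x
      rw [pow_succ', Equiv.Perm.mul_apply, Equiv.Perm.mul_apply, haff ((φ t ^ n) x), haff ((φ t ^ n) 0), ih x]
      ring
  have hk5 : (k : Fin 11) ^ 5 = 1 := by
    have h1 := hpow 5 1
    rw [show φ (t : G) ^ 5 = 1 by rw [← map_pow, ← ht, pow_orderOf_eq_one, map_one]] at h1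
    simpa using h1.symm
  have hk1 : (k : Fin 11) ≠ 1 := by
    intro h1
    have hc : φ t * sig = sig * φ t := by
      rw [hT]; congr 1
      refine Equiv.ext fun x => ?_
      rw [sig_pow, h1]
      rfl
    rw [← hsig, ← map_mul, ← map_mul] at hc
    have := Subgroup.orderOf_dvd_natCard _ (Subgroup.mem_centralizer_singleton_iff.2 (hφ hc) :
      (t : G) ∈ Subgroup.centralizer ({s} : Set G))
    rw [centralizer_eleven hG hs, ht] at this
    norm_num at this
  obtain ⟨j, hj⟩ := root_check _ hk5 hk1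
  set b := (φ t ^ (j : ℕ)) 0
  set τ' : G := s ^ (((-b : Fin 11) : ℕ)) * (t : G) ^ (j : ℕ)
  have hτ : φ τ' = tau := by
    refine Equiv.ext fun x => ?_
    rw [map_mul, map_pow, map_pow, hsig, Equiv.Perm.mul_apply, sig_pow, hpow, hj, Fin.cast_val_eq_self]
    show 3 * x + b + -b = 3 * x
    ring
  have hτ5 : orderOf τ' = 5 := by
    refine orderOf_eq_prime (hφ ?_) fun h => ?_
    · rw [map_pow, hτ, map_one]; ext x; rw [tau_pow]; revert x; decide
    · rw [h, map_one] at hτ; exact absurd (congrArg (fun p : S11 => p 1) hτ) (by decide)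
  refine ⟨⟨τ', hτ⟩, ?_⟩
  obtain ⟨c, hc⟩ := isConj_iff.1 (five_classes hG hτ5 2 (by norm_num) (by norm_num))
  have hc' : φ c * tau = tau ^ 2 * φ c := by
    rw [← hτ, ← map_mul, ← map_pow, ← map_mul, ← hc]
    congr 1
    group
  have h0 : φ c 0 = 0 := by
    have := Equiv.ext_iff.1 hc' 0
    rw [Equiv.Perm.mul_apply, Equiv.Perm.mul_apply, tau_pow] at this
    change φ c 0 = 3 ^ 2 * φ c 0 at this
    have key : ∀ z : Fin 11, z = 3 ^ 2 * z → z = 0 := by decide
    exact key _ this
  have h1 : φ c 1 ≠ 0 := fun h => absurd ((φ c).injective (h.trans h0.symm)) (by decide)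
  obtain ⟨i, hi⟩ := shift_check _ h1
  refine ⟨φ (τ' ^ (i : ℕ) * c), ⟨_, rfl⟩, ?_, ?_⟩
  · rw [map_mul, map_pow, hτ]
    have e : φ c * tau * (φ c)⁻¹ = tau ^ 2 := by rw [hc', mul_inv_cancel_right]
    calc tau ^ (i : ℕ) * φ c * tau * (tau ^ (i : ℕ) * φ c)⁻¹
        = tau ^ (i : ℕ) * (φ c * tau * (φ c)⁻¹) * (tau ^ (i : ℕ))⁻¹ := by group
      _ = tau ^ 2 := by rw [e, ← pow_add, Nat.add_comm, pow_add, mul_inv_cancel_right]
  · rw [map_mul, map_pow, hτ, Equiv.Perm.mul_apply, tau_pow]
    exact hi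

/-- An element of the group cannot have a cycle of length seven. -/
theorem no_seven {φ : G →* S11} {w : S11} (hw : w ∈ φ.range) (x : Fin 11)
    (h : (⇑w)^[7] x = x ∧ (⇑w)^[3] x ≠ x) : False := by
  obtain ⟨g, rfl⟩ := hw
  refine h.2 ?_
  have e : φ g ^ 7920 = 1 := by rw [← map_pow, ← hG, pow_card_eq_one', map_one]
  have h7 : ∀ n : ℕ, (φ g ^ (7 * n)) x = x := fun n => by
    rw [pow_mul]
    refine Equiv.Perm.pow_apply_eq_self_of_apply_eq_self ?_ n
    rw [perm_iter]; exact h.1
  have h3 := Equiv.ext_iff.1 e x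
  rw [show (7920 : ℕ) = 3 + 7 * 1131 from rfl, pow_add, Equiv.Perm.mul_apply, h7, Equiv.Perm.one_apply,
    perm_iter] at h3
  exact h3

/-- Generation, given an element with a cycle of length eight. -/
theorem eq_range {φ : G →* S11} (hφ : Function.Injective φ) {c : S11} (hs : sig ∈ φ.range) (ht : tau ∈ φ.range)
    (hc : c ∈ φ.range) (hcs : ∀ k : Fin 11, ∃ x, c (x + 1) ≠ c x + k) (x₀ : Fin 11)
    (h8 : (⇑(sig * tau * c) )^[8] x₀ = x₀ ∧ (⇑(sig * tau * c))^[4] x₀ ≠ x₀ ∨
      (⇑(sig * sig * c))^[8] x₀ = x₀ ∧ (⇑(sig * sig * c))^[4] x₀ ≠ x₀) :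
    Subgroup.closure {sig, tau, c} = φ.range := by
  classical
  haveI : Fact (Nat.Prime 11) := ⟨by norm_num⟩
  have hle : Subgroup.closure {sig, tau, c} ≤ φ.range := by
    rw [Subgroup.closure_le]; rintro x (rfl | rfl | rfl) <;> assumption
  obtain ⟨s, hs⟩ := hs
  obtain ⟨t, ht⟩ := ht
  obtain ⟨d, hd⟩ := hc
  have hs11 : orderOf s = 11 := by rw [← orderOf_injective φ hφ, hs, orderOf_sig]
  set M := (Subgroup.closure {sig, tau, c}).comap φ with hM
  have hsM : s ∈ M := by rw [hM, Subgroup.mem_comap, hs]; exact Subgroup.subset_closure (by simp)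
  have htM : t ∈ M := by rw [hM, Subgroup.mem_comap, ht]; exact Subgroup.subset_closure (by simp)
  have hdM : d ∈ M := by rw [hM, Subgroup.mem_comap, hd]; exact Subgroup.subset_closure (by simp)
  suffices hMtop : M = ⊤ by
    refine le_antisymm hle ?_
    rintro _ ⟨g, rfl⟩
    exact Subgroup.mem_comap.1 (hM ▸ hMtop.symm ▸ Subgroup.mem_top g)
  set Ns := Subgroup.normalizer (Subgroup.zpowers s : Set G) with hNs
  have hN : Nat.card Ns = 55 := card_normalizer_eleven hG hs11
  have htN : t ∈ Ns := by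
    refine Subgroup.mem_normalizer_iff.2 fun h => ?_
    have e : t * s * t⁻¹ = s ^ 3 := hφ (by
      rw [map_mul, map_mul, map_inv, map_pow, hs, ht]
      ext x; revert x; decide)
    have e' : t⁻¹ * s * t⁻¹⁻¹ = s ^ 4 := hφ (by
      simp only [map_mul, map_inv, map_pow, hs, ht]
      ext x; revert x; decide)
    constructor
    · intro hh
      obtain ⟨i, rfl⟩ := Subgroup.mem_zpowers_iff.1 hh
      rw [← conj_zpow, e, ← zpow_natCast, ← zpow_mul]
      exact Subgroup.zpow_mem _ (Subgroup.mem_zpowers s) _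
    · intro hh
      obtain ⟨i, hi⟩ := Subgroup.mem_zpowers_iff.1 hh
      have : h = t⁻¹ * s ^ i * t⁻¹⁻¹ := by rw [hi]; group
      rw [this, ← conj_zpow, e', ← zpow_natCast, ← zpow_mul]
      exact Subgroup.zpow_mem _ (Subgroup.mem_zpowers s) _
  have hNM : Ns ≤ M := by
    have e : Ns = Ns ⊓ M := by
      refine (Subgroup.eq_of_le_of_card_ge inf_le_left ?_).symm
      rw [hN]
      refine Nat.le_of_dvd Nat.card_pos (show 11 * 5 ∣ _ from Nat.Coprime.mul_dvd_of_dvd_of_dvd (by norm_num) ?_ ?_)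
      · exact hs11 ▸ Subgroup.orderOf_dvd_natCard _ ⟨Subgroup.le_normalizer (Subgroup.mem_zpowers s), hsM⟩
      · have h5 : orderOf t = 5 := by
          haveI : Fact (Nat.Prime 5) := ⟨by norm_num⟩
          rw [← orderOf_injective φ hφ, ht]
          refine orderOf_eq_prime (Equiv.ext fun x => ?_) fun h => ?_
          · rw [tau_pow]; revert x; decide
          · exact absurd (congrArg (fun p : S11 => p 1) h) (by decide)
        exact h5 ▸ Subgroup.orderOf_dvd_natCard _ ⟨htN, htM⟩
    rw [e]; exact inf_le_right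
  have hd' : d ∉ Ns := by
    intro hdN
    have hmem : d * s * d⁻¹ ∈ Subgroup.zpowers s :=
      (Subgroup.mem_normalizer_iff.1 hdN s).1 (Subgroup.mem_zpowers s)
    rw [← mem_powers_iff_mem_zpowers] at hmem
    obtain ⟨k, hk⟩ := hmem
    obtain ⟨x, hx⟩ := hcs (k : Fin 11)
    refine hx ?_
    have e : c * sig = sig ^ k * c := by
      rw [← hd, ← hs, ← map_mul, ← map_pow, ← map_mul]
      congr 1
      show d * s = s ^ k * d
      rw [show s ^ k = d * s * d⁻¹ from hk, inv_mul_cancel_right]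
    have := Equiv.ext_iff.1 e x
    rw [Equiv.Perm.mul_apply, Equiv.Perm.mul_apply, sig_pow] at this
    exact this
  -- Sylow counting in the subgroup
  set T : Subgroup M := (Subgroup.zpowers s).subgroupOf M
  have hzM : Subgroup.zpowers s ≤ M := Subgroup.zpowers_le.2 hsM
  have hTc : Nat.card T = 11 := by
    rw [Nat.card_congr (Subgroup.subgroupOfEquivOfLe hzM).toEquiv, Nat.card_zpowers, hs11]
  have hMd : Nat.card M ∣ 55 * 144 := by
    have := Subgroup.card_subgroup_dvd_card M
    rwa [hG] at this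
  obtain ⟨S, hS⟩ := (IsPGroup.of_card (p := 11) (n := 1) (by rw [hTc, pow_one]) : IsPGroup 11 T).exists_le_sylow
  have hSe : (S : Subgroup M) = T := by
    refine (Subgroup.eq_of_le_of_card_ge hS ?_).symm
    rw [hTc]
    obtain ⟨a, ha⟩ := IsPGroup.iff_card.1 S.2
    rw [ha]
    rcases Nat.lt_or_ge a 2 with h | h
    · exact (Nat.pow_le_pow_right (by norm_num) (Nat.le_of_lt_succ h)).trans_eq (pow_one 11)
    · exfalso
      exact absurd (((pow_dvd_pow 11 h).trans (ha ▸ Subgroup.card_subgroup_dvd_card (S : Subgroup M))).trans hMd)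
        (by norm_num)
  have hNN : Subgroup.normalizer (S : Set M) = Ns.subgroupOf M := by
    ext m
    rw [show (S : Set M) = ((S : Subgroup M) : Set M) from rfl, hSe, Subgroup.mem_subgroupOf, hNs]
    constructor
    · intro hm
      refine mem_normalizer_of_map fun x hx => ?_
      have := (Subgroup.mem_normalizer_iff.1 hm ⟨x, hzM hx⟩).1 (Subgroup.mem_subgroupOf.2 hx)
      exact Subgroup.mem_subgroupOf.1 this
    · intro hm
      refine mem_normalizer_of_map fun x hx => ?_
      exact (Subgroup.mem_normalizer_iff.1 hm (x : G)).1 hx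
  have hn := card_sylow_modEq_one 11 M
  have hmul := (Subgroup.normalizer (S : Set M)).index_mul_card
  rw [← S.card_eq_index_normalizer, hNN, Nat.card_congr (Subgroup.subgroupOfEquivOfLe hNM).toEquiv, hN] at hmul
  have hn144 : Nat.card (Sylow 11 M) ∣ 144 :=
    Nat.dvd_of_mul_dvd_mul_right (show 0 < 55 by norm_num) (hmul ▸ (mul_comm 55 144 ▸ hMd))
  have hcases : ∀ n ∈ Nat.divisors 144, n % 11 = 1 → n = 1 ∨ n = 12 ∨ n = 144 := by decide
  rcases hcases _ (Nat.mem_divisors.2 ⟨hn144, by norm_num⟩) (Nat.mod_eq_of_modEq hn (by norm_num)) with h1 | h12 | h144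
  · exfalso
    rw [h1, one_mul] at hmul
    exact hd' ((Subgroup.eq_of_le_of_card_ge hNM (by rw [hN, hmul])).symm ▸ hdM)
  · exfalso
    rw [h12] at hmul
    have key : ∀ g ∈ M, (⇑(φ g))^[8] x₀ = x₀ → (⇑(φ g))^[4] x₀ = x₀ := by
      intro g hg h
      have e : φ g ^ 660 = 1 := by
        rw [← map_pow, show g ^ 660 = 1 from ?_, map_one]
        rw [show (660 : ℕ) = Nat.card M by omega]
        exact congrArg Subtype.val (pow_card_eq_one' (x := (⟨g, hg⟩ : M)))
      have h8' : ∀ n : ℕ, (φ g ^ (8 * n)) x₀ = x₀ := fun n => by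
        rw [pow_mul]
        refine Equiv.Perm.pow_apply_eq_self_of_apply_eq_self ?_ n
        rw [perm_iter]; exact h
      have h3 := Equiv.ext_iff.1 e x₀
      rw [show (660 : ℕ) = 4 + 8 * 82 from rfl, pow_add, Equiv.Perm.mul_apply, h8', Equiv.Perm.one_apply,
        perm_iter] at h3
      exact h3
    rcases h8 with ⟨a, b⟩ | ⟨a, b⟩
    · rw [← hs, ← ht, ← hd, ← map_mul, ← map_mul] at a b
      exact b (key _ (mul_mem (mul_mem hsM htM) hdM) a)
    · rw [← hs, ← hd, ← map_mul, ← map_mul] at a b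
      exact b (key _ (mul_mem (mul_mem hsM hsM) hdM) a)
  · rw [h144] at hmul
    exact Subgroup.eq_top_of_card_eq M (by rw [hG, ← hmul])

/-- Every action on eleven points is a renumbering of the standard one. -/
theorem exists_conj_std {φ₀ : G →* S11} (hφ₀ : Function.Injective φ₀) :
    ∃ π : S11, std.map (MulAut.conj π).toMonoidHom = φ₀.range := by
  obtain ⟨π, φ, hdef, hφ, hs, ht, c, hc, hcon, hc1⟩ := exists_generators hG hφ₀
  have hrel : ∀ x, c (3 * x) = 9 * c x := by
    intro x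
    have := Equiv.ext_iff.1 (show c * tau = tau ^ 2 * c by rw [← hcon, inv_mul_cancel_right]) x
    rw [Equiv.Perm.mul_apply, Equiv.Perm.mul_apply, tau_pow] at this
    exact this
  have htab := eq_tab hrel
  generalize ha : c 1 = a at htab hc1
  generalize hb : c 2 = b at htab
  have hinj : Function.Injective (tab a b) := htab ▸ c.injective
  have hback : ∀ K : Subgroup S11, K = φ.range → K.map (MulAut.conj π⁻¹).toMonoidHom = φ₀.range := by
    rintro _ rfl
    rw [MonoidHom.map_range, hdef]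
    refine congrArg MonoidHom.range (MonoidHom.ext fun x => ?_)
    show π⁻¹ * (π * φ₀ x * π⁻¹) * π⁻¹⁻¹ = φ₀ x
    group
  have bad : ∀ w : S11, w ∈ φ.range → ∀ F : Fin 11 → Fin 11, ⇑w = F →
      (∃ x, F^[7] x = x ∧ F^[3] x ≠ x) → False := by
    rintro w hw _ rfl ⟨x, hx⟩
    exact no_seven hG hw x hx
  rcases cand_check a b hc1 hinj with ⟨rfl, rfl | rfl | rfl | rfl | rfl⟩ | ⟨rfl, rfl | rfl | rfl | rfl | rfl⟩
  · exact (bad (sig * c * tau) (mul_mem (mul_mem hs hc) ht) (sig ∘ tab 1 2 ∘ tau)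
      (by rw [Equiv.Perm.coe_mul, Equiv.Perm.coe_mul, htab]; rfl) (by decide)).elim
  · have e : c = gen := Equiv.ext fun x => by rw [htab, gen_tab]
    subst e
    exact ⟨π⁻¹, hback _ (eq_range hG hφ hs ht hc (by decide) 0 (Or.inr (by decide)))⟩
  · exact (bad (sig * sig * c) (mul_mem (mul_mem hs hs) hc) (sig ∘ sig ∘ tab 1 7)
      (by rw [Equiv.Perm.coe_mul, Equiv.Perm.coe_mul, htab]; rfl) (by decide)).elim
  · exact (bad (sig * sig * c) (mul_mem (mul_mem hs hs) hc) (sig ∘ sig ∘ tab 1 8)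
      (by rw [Equiv.Perm.coe_mul, Equiv.Perm.coe_mul, htab]; rfl) (by decide)).elim
  · have e : c = mu * gen * mu⁻¹ := Equiv.ext fun x => by rw [htab, mu_gen]
    subst e
    refine ⟨π⁻¹ * mu, ?_⟩
    rw [show (MulAut.conj (π⁻¹ * mu)).toMonoidHom =
      (MulAut.conj π⁻¹).toMonoidHom.comp (MulAut.conj mu).toMonoidHom from MonoidHom.ext fun x => by
        show π⁻¹ * mu * x * (π⁻¹ * mu)⁻¹ = π⁻¹ * (mu * x * mu⁻¹) * π⁻¹⁻¹
        group, ← Subgroup.map_map, map_std]
    exact hback _ (eq_range hG hφ hs ht hc (by decide) 0 (Or.inl (by decide)))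
  · exact (bad (sig * c) (mul_mem hs hc) (sig ∘ tab 2 1)
      (by rw [Equiv.Perm.coe_mul, htab]) (by decide)).elim
  · exact (bad (sig * tau * c * sig * c) (mul_mem (mul_mem (mul_mem (mul_mem hs ht) hc) hs) hc)
      (sig ∘ tau ∘ tab 2 3 ∘ sig ∘ tab 2 3)
      (by simp only [Equiv.Perm.coe_mul, htab, Function.comp_assoc]) (by decide)).elim
  · exact (bad (sig * sig * tau * c) (mul_mem (mul_mem (mul_mem hs hs) ht) hc)
      (sig ∘ sig ∘ tau ∘ tab 2 4)
      (by simp only [Equiv.Perm.coe_mul, htab, Function.comp_assoc]) (by decide)).elim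
  · exact (bad (sig * tau * c) (mul_mem (mul_mem hs ht) hc) (sig ∘ tau ∘ tab 2 5)
      (by simp only [Equiv.Perm.coe_mul, htab, Function.comp_assoc]) (by decide)).elim
  · exact (bad (sig * sig * c * tau) (mul_mem (mul_mem (mul_mem hs hs) hc) ht)
      (sig ∘ sig ∘ tab 2 9 ∘ tau)
      (by simp only [Equiv.Perm.coe_mul, htab, Function.comp_assoc]) (by decide)).elim

/-- Every simple group of order 7920 is isomorphic to the standard one. -/
theorem nonempty_mulEquiv_std : Nonempty (G ≃* std) := by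
  obtain ⟨φ₀, hφ₀⟩ := exists_embedding hG
  obtain ⟨π, hπ⟩ := exists_conj_std hG hφ₀
  exact ⟨(MonoidHom.ofInjective hφ₀).trans ((MulEquiv.subgroupCongr hπ.symm).trans
    (std.equivMapOfInjective _ (MulAut.conj π).injective).symm)⟩

end Cfsg.Agent.M11Uniq
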