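import Cfsg.Agent.Lib.M11Local.SylowThree

/-!
Simple groups of order 7920: the action on the Sylow subgroups for three and the involutions inverting them.
-/

set_option linter.unusedSectionVars false
set_option linter.style.haveILetI false
set_option linter.unusedFintypeInType false

namespace Cfsg.Agent.M11Uniq

open Cfsg Cfsg.Agent.M11Local
open scoped Pointwise

universe u

section Generic

variable {G : Type u} [Group G]

theorem mul_self_of_orderOf_two {t : G} (ht : orderOf t = 2) : t * t = 1 := by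
  rw [← pow_two, ← ht, pow_orderOf_eq_one]

theorem inv_of_orderOf_two {t : G} (ht : orderOf t = 2) : t⁻¹ = t :=
  inv_eq_of_mul_eq_one_left (mul_self_of_orderOf_two ht)

theorem ne_one_of_orderOf {t : G} {n : ℕ} (ht : orderOf t = n) (hn : n ≠ 1) : t ≠ 1 := fun h => by
  rw [h, orderOf_one] at ht; exact hn ht.symm

theorem orderOf_two_of {t : G} (h : t * t = 1) (h1 : t ≠ 1) : orderOf t = 2 :=
  orderOf_eq_prime (by rw [pow_two, h]) h1

theorem orderOf_conj (g t : G) : orderOf (g * t * g⁻¹) = orderOf t := MulEquiv.orderOf_eq (MulAut.conj g) t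

theorem mem_smul_sylow {p : ℕ} {g x : G} {v : Sylow p G} :
    x ∈ ((g • v : Sylow p G) : Subgroup G) ↔ g⁻¹ * x * g ∈ (v : Subgroup G) := by
  rw [Sylow.coe_subgroup_smul, Subgroup.mem_pointwise_smul_iff_inv_smul_mem, MulAut.smul_def, MulAut.conj_inv_apply]

theorem conj_mem_of_fix {g x : G} {p : ℕ} {v : Sylow p G} (hg : g • v = v) (hx : x ∈ (v : Subgroup G)) :
    g * x * g⁻¹ ∈ (v : Subgroup G) :=
  (Subgroup.mem_normalizer_iff.1 (Sylow.smul_eq_iff_mem_normalizer.1 hg) x).1 hx

/-- A set of three points kept by an involutive map has a fixed point. -/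
theorem exists_fixed_three {α : Type*} [DecidableEq α] {S : Finset α} (hS : S.card = 3) (f : α → α)
    (hf : ∀ a ∈ S, f a ∈ S) (hf2 : ∀ a ∈ S, f (f a) = a) : ∃ a ∈ S, f a = a := by
  obtain ⟨a, b, c, hab, hac, hbc, rfl⟩ := Finset.card_eq_three.1 hS
  have ha := hf a (by simp)
  have hb := hf b (by simp)
  have hc := hf c (by simp)
  have ha2 := hf2 a (by simp)
  have hb2 := hf2 b (by simp)
  have hc2 := hf2 c (by simp)
  simp only [Finset.mem_insert, Finset.mem_singleton] at ha hb hc ⊢
  rcases ha with ha | ha | ha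
  · exact ⟨a, Or.inl rfl, ha⟩
  · refine ⟨c, Or.inr (Or.inr rfl), ?_⟩
    rcases hc with h | h | h
    · rw [h, ha] at hc2; exact absurd hc2 hbc
    · rw [ha] at ha2; rw [h, ha2] at hc2; exact absurd hc2 hac
    · exact h
  · refine ⟨b, Or.inr (Or.inl rfl), ?_⟩
    rcases hb with h | h | h
    · rw [h, ha] at hb2; exact absurd hb2 hbc.symm
    · exact h
    · rw [ha] at ha2; rw [h, ha2] at hb2; exact absurd hb2 hab

end Generic

variable {G : Type u} [Group G]

/-- An involution inverting the whole of a Sylow subgroup for three. -/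
def Inv (v : Sylow 3 G) (t : G) : Prop :=
  orderOf t = 2 ∧ ∀ x ∈ (v : Subgroup G), t * x * t⁻¹ = x⁻¹

theorem Inv.smul {v : Sylow 3 G} {t : G} (h : Inv v t) (g : G) : Inv (g • v) (g * t * g⁻¹) := by
  refine ⟨(orderOf_conj g t).trans h.1, fun x hx => ?_⟩
  have e := h.2 _ (mem_smul_sylow.1 hx)
  calc g * t * g⁻¹ * x * (g * t * g⁻¹)⁻¹ = g * (t * (g⁻¹ * x * g) * t⁻¹) * g⁻¹ := by group
    _ = x⁻¹ := by rw [e]; group

theorem Inv.fix [Finite G] {v : Sylow 3 G} {t : G} (h : Inv v t) : t • v = v := by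
  refine Sylow.smul_eq_iff_mem_normalizer.2 (mem_normalizer_of_map fun x hx => ?_)
  rw [h.2 x hx]
  exact inv_mem hx

variable [Fintype G] [IsSimpleGroup G] (hG : Nat.card G = 7920)

variable {v w : Sylow 3 G}

include hG

theorem card_normalizer : Nat.card (Subgroup.normalizer ((v : Subgroup G) : Set G)) = 144 :=
  card_normalizer_three hG

theorem card_omega : Nat.card (Sylow 3 G) = 55 := by
  haveI : Fact (Nat.Prime 3) := ⟨by norm_num⟩
  obtain ⟨v⟩ : Nonempty (Sylow 3 G) := inferInstance
  have h : (Subgroup.normalizer ((v : Subgroup G) : Set G)).index *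
      Nat.card (Subgroup.normalizer ((v : Subgroup G) : Set G)) = 7920 :=
    (Subgroup.index_mul_card _).trans hG
  rw [card_normalizer hG] at h
  rw [v.card_eq_index_normalizer]
  show (Subgroup.normalizer ((v : Subgroup G) : Set G)).index = 55
  omega

/-- The centraliser of a non-identity element inside the normaliser, and transitivity on such elements. -/
theorem point_facts {y : G} (hy : y ∈ (v : Subgroup G)) (hy1 : y ≠ 1) :
    Nat.card ↥(Subgroup.normalizer ((v : Subgroup G) : Set G) ⊓ Subgroup.centralizer ({y} : Set G)) = 18 ∧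
      ∀ y' ∈ (v : Subgroup G), y' ≠ 1 →
        ∃ n ∈ Subgroup.normalizer ((v : Subgroup G) : Set G), n * y * n⁻¹ = y' := by
  classical
  haveI : Fact (Nat.Prime 3) := ⟨by norm_num⟩
  haveI : Fact (Nat.Prime 2) := ⟨Nat.prime_two⟩
  set N := Subgroup.normalizer ((v : Subgroup G) : Set G) with hN
  set K := N ⊓ Subgroup.centralizer ({y} : Set G) with hK
  have hPK : (v : Subgroup G) ≤ K := le_inf Subgroup.le_normalizer fun x hx =>
    Subgroup.mem_centralizer_singleton_iff.2 (P_comm hG hx hy)
  letI act : MulAction N (v : Subgroup G) :=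
    MulAction.compHom _ (Subgroup.normalizerMonoidHom (v : Subgroup G))
  have hact : ∀ (n : N) (x : (v : Subgroup G)), ((n • x : (v : Subgroup G)) : G) = n * x * (n : G)⁻¹ :=
    fun n x => rfl
  have hst : Nat.card (MulAction.stabilizer N (⟨y, hy⟩ : (v : Subgroup G))) = Nat.card K := by
    rw [← Nat.card_congr (Subgroup.subgroupOfEquivOfLe (inf_le_left : K ≤ N)).toEquiv]
    refine Nat.card_congr (Equiv.subtypeEquivRight fun n => ?_)
    rw [MulAction.mem_stabilizer_iff, Subtype.ext_iff, hact, Subgroup.mem_subgroupOf, Subgroup.mem_inf,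
      Subgroup.mem_centralizer_singleton_iff, mul_inv_eq_iff_eq_mul]
    exact ⟨fun h => ⟨n.2, h⟩, fun h => h.2⟩
  have horb := MulAction.card_orbit_mul_card_stabilizer_eq_card_group N (⟨y, hy⟩ : (v : Subgroup G))
  rw [← Nat.card_eq_fintype_card, ← Nat.card_eq_fintype_card, ← Nat.card_eq_fintype_card, hst,
    card_normalizer hG] at horb
  -- the orbit avoids the identity
  have hle : Nat.card (MulAction.orbit N (⟨y, hy⟩ : (v : Subgroup G))) ≤ 8 := by
    have hsub : MulAction.orbit N (⟨y, hy⟩ : (v : Subgroup G)) ⊆ ({1} : Set (v : Subgroup G))ᶜ := by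
      rintro x ⟨n, rfl⟩ h
      have h' := congrArg Subtype.val (Set.mem_singleton_iff.1 h)
      simp only [hact, Subgroup.coe_one, conj_eq_one_iff] at h'
      exact hy1 h'
    refine (Nat.card_mono (Set.toFinite _) hsub).trans ?_
    rw [Nat.card_coe_set_eq, Set.ncard_compl, Set.ncard_singleton, card_P hG]
  -- subgroups of two-power order fixing the point are small
  have hsmall : ∀ S : Subgroup G, S ≤ K → IsPGroup 2 S → Nat.card S ≤ 2 := by
    intro S hSK hS
    have hdisj : ∀ s ∈ S, s ∈ (v : Subgroup G) → s = 1 := fun s hs hs' => by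
      obtain ⟨k, hk⟩ := IsPGroup.iff_card.1 hS
      have h1 := hk ▸ Subgroup.orderOf_dvd_natCard S hs
      have h2 := card_P hG ▸ Subgroup.orderOf_dvd_natCard _ hs'
      exact orderOf_eq_one_iff.1 (Nat.eq_one_of_dvd_coprimes (Nat.Coprime.pow_left k (by norm_num) :
        Nat.Coprime (2 ^ k) 9) h1 h2)
    by_cases hb : ∃ b ∈ (v : Subgroup G), b ∉ Subgroup.zpowers y
    swap
    · push_neg at hb
      have hS1 : S = ⊥ := (Subgroup.eq_bot_iff_forall S).2 fun s hs => hdisj s hs (centralizer_P_eq hG (P := v) ▸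
        Subgroup.mem_centralizer_iff.2 fun x hx => by
          obtain ⟨i, rfl⟩ := Subgroup.mem_zpowers_iff.1 (hb x hx)
          exact ((show Commute s y from (Subgroup.mem_centralizer_singleton_iff.1 (hSK hs).2)).zpow_right i).symm.eq)
      rw [hS1, Subgroup.card_bot]; norm_num
    obtain ⟨b, hb, hby⟩ := hb
    have hz : Nat.card (Subgroup.zpowers y) = 3 := by
      have hd : Nat.card (Subgroup.zpowers y) ∣ 9 := card_P hG ▸ Subgroup.card_dvd_of_le (Subgroup.zpowers_le.2 hy)
      have hne : Nat.card (Subgroup.zpowers y) ≠ 1 := by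
        rw [Nat.card_zpowers]; exact fun h => hy1 (orderOf_eq_one_iff.1 h)
      have hne9 : Nat.card (Subgroup.zpowers y) ≠ 9 := fun h => hby
        ((Subgroup.eq_of_le_of_card_ge (Subgroup.zpowers_le.2 hy) (by rw [card_P hG, h])).symm ▸ hb)
      have := Nat.le_of_dvd (by norm_num) hd
      interval_cases h : Nat.card (Subgroup.zpowers y) <;> omega
    let X : Finset G := Finset.univ.filter fun x => x ∈ (v : Subgroup G) ∧ x ∉ Subgroup.zpowers y
    have hX : X.card = 6 := by
      have : X = (Finset.univ.filter fun x => x ∈ (v : Subgroup G)) \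
          (Finset.univ.filter fun x => x ∈ Subgroup.zpowers y) := by
        ext x; simp [X]
      rw [this, Finset.card_sdiff_of_subset, ← Fintype.card_subtype, ← Fintype.card_subtype,
        ← Nat.card_eq_fintype_card, ← Nat.card_eq_fintype_card, hz, card_P hG]
      intro x hx
      simp only [Finset.mem_filter, Finset.mem_univ, true_and] at hx ⊢
      exact Subgroup.zpowers_le.2 hy hx
    have hmem : ∀ s ∈ S, ∀ c ∈ X, s * c * s⁻¹ ∈ X := by
      intro s hs c hc
      simp only [X, Finset.mem_filter, Finset.mem_univ, true_and] at hc ⊢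
      refine ⟨(Subgroup.mem_normalizer_iff.1 (hSK hs).1 c).1 hc.1, fun h => hc.2 ?_⟩
      obtain ⟨i, hi⟩ := Subgroup.mem_zpowers_iff.1 h
      refine Subgroup.mem_zpowers_iff.2 ⟨i, ?_⟩
      have hsy : Commute s y := Subgroup.mem_centralizer_singleton_iff.1 (hSK hs).2
      calc y ^ i = s⁻¹ * (s * y ^ i) := by group
        _ = s⁻¹ * (y ^ i * s) := by rw [(hsy.zpow_right i).eq]
        _ = c := by rw [hi]; group
    have hinj : ∀ c ∈ X, ∀ s ∈ S, ∀ s' ∈ S, s * c * s⁻¹ = s' * c * s'⁻¹ → s = s' := by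
      intro c hc s hs s' hs' h
      simp only [X, Finset.mem_filter, Finset.mem_univ, true_and] at hc
      have hm := S.mul_mem (S.inv_mem hs') hs
      by_contra hne
      refine hc.2 (fix_bound hG (g := s'⁻¹ * s) (fun hP => hne (inv_mul_eq_one.1 (hdisj _ hm hP)).symm) hy hc.1
        ?_ ?_ hy1)
      · rw [Subgroup.mem_centralizer_singleton_iff.1 (hSK hm).2]; group
      · calc s'⁻¹ * s * c * (s'⁻¹ * s)⁻¹ = s'⁻¹ * (s * c * s⁻¹) * s' := by group
          _ = c := by rw [h]; group
    have hbX : b ∈ X := by simp [X, hb, hby]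
    let O : G → Finset G := fun c => (Finset.univ.filter fun s => s ∈ S).image fun s => s * c * s⁻¹
    have hO : ∀ c ∈ X, (O c).card = Nat.card S := fun c hc => by
      rw [Finset.card_image_of_injOn, ← Fintype.card_subtype, ← Nat.card_eq_fintype_card]
      intro s hs s' hs' h
      simp only [Finset.coe_filter, Finset.mem_univ, true_and, Set.mem_ofPred_eq] at hs hs'
      exact hinj c hc s hs s' hs' h
    have hOX : ∀ c ∈ X, O c ⊆ X := fun c hc x hx => by
      simp only [O, Finset.mem_image, Finset.mem_filter, Finset.mem_univ, true_and] at hx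
      obtain ⟨s, hs, rfl⟩ := hx
      exact hmem s hs c hc
    obtain ⟨k, hk⟩ := IsPGroup.iff_card.1 hS
    have h6 : Nat.card S ≤ 6 := hO b hbX ▸ hX ▸ Finset.card_le_card (hOX b hbX)
    by_contra hc
    have hk2 : k = 2 := by
      by_contra hne
      rcases Nat.lt_or_ge k 2 with h | h
      · have := Nat.pow_le_pow_right (show 0 < 2 by norm_num) (show k ≤ 1 by omega)
        rw [← hk] at this
        exact hc (this.trans_eq (pow_one 2))
      · have := Nat.pow_le_pow_right (show 0 < 2 by norm_num) (show 3 ≤ k by omega)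
        rw [← hk] at this
        exact absurd (this.trans h6) (by norm_num)
    subst hk2
    obtain ⟨b', hb'X, hb'⟩ := Finset.exists_mem_notMem_of_card_lt_card
      (show (O b).card < X.card by rw [hO b hbX, hX, hk]; norm_num)
    have hd : Disjoint (O b) (O b') := by
      refine Finset.disjoint_left.2 fun x hx hx' => hb' ?_
      simp only [O, Finset.mem_image, Finset.mem_filter, Finset.mem_univ, true_and] at hx hx' ⊢
      obtain ⟨s, hs, rfl⟩ := hx
      obtain ⟨s', hs', h⟩ := hx'
      refine ⟨s'⁻¹ * s, S.mul_mem (S.inv_mem hs') hs, ?_⟩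
      calc s'⁻¹ * s * b * (s'⁻¹ * s)⁻¹ = s'⁻¹ * (s * b * s⁻¹) * s' := by group
        _ = b' := by rw [← h]; group
    have := Finset.card_le_card (Finset.union_subset (hOX b hbX) (hOX b' hb'X))
    rw [Finset.card_union_of_disjoint hd, hO b hbX, hO b' hb'X, hX, hk] at this
    norm_num at this
  obtain ⟨m, hm⟩ := card_P hG ▸ Subgroup.card_dvd_of_le hPK
  have hm16 : m ∣ 16 := by
    have h := Subgroup.card_dvd_of_le (inf_le_left : K ≤ N)
    rw [card_normalizer hG, hm] at h
    exact Nat.dvd_of_mul_dvd_mul_left (by norm_num : 0 < 9) (show 9 * m ∣ 9 * 16 from h)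
  have hm2 : m ≤ 2 := by
    obtain ⟨k, -, hk⟩ := (Nat.dvd_prime_pow Nat.prime_two).1 (show m ∣ 2 ^ 4 from hm16)
    obtain ⟨S, hS⟩ := Sylow.exists_subgroup_card_pow_prime 2 (G := K) (n := k) (by rw [hm, hk]; exact dvd_mul_left _ _)
    have h := hsmall (S.map K.subtype) (Subgroup.map_subtype_le _) ((IsPGroup.of_card hS).map _)
    rw [Subgroup.card_map_of_injective K.subtype_injective, hS, ← hk] at h
    exact h
  have hm0 : m ≠ 0 := fun h => by rw [h, mul_zero] at hm; exact Nat.card_pos.ne' hm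
  rw [hm] at horb
  have hm' : m = 2 := by interval_cases m <;> omega
  subst hm'
  refine ⟨hm, fun y' hy' hy'1 => ?_⟩
  have h8 : Nat.card (MulAction.orbit N (⟨y, hy⟩ : (v : Subgroup G))) = 8 := by omega
  have hmem : (⟨y', hy'⟩ : (v : Subgroup G)) ∈ MulAction.orbit N (⟨y, hy⟩ : (v : Subgroup G)) := by
    by_contra hout
    have hsub : MulAction.orbit N (⟨y, hy⟩ : (v : Subgroup G)) ⊆
        ({1, ⟨y', hy'⟩} : Set (v : Subgroup G))ᶜ := by
      rintro x ⟨n, rfl⟩ h
      rcases h with h | h
      · have h' := congrArg Subtype.val h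
        simp only [hact, Subgroup.coe_one, conj_eq_one_iff] at h'
        exact hy1 h'
      · exact hout ⟨n, h⟩
    have := Nat.card_mono (Set.toFinite _) hsub
    rw [Nat.card_coe_set_eq, Nat.card_coe_set_eq, Set.ncard_compl, Set.ncard_pair, card_P hG] at this
    · rw [Nat.card_coe_set_eq] at h8; omega
    · exact fun h => hy'1 (congrArg Subtype.val h).symm
  obtain ⟨n, hn⟩ := hmem
  refine ⟨n, n.2, ?_⟩
  have := congrArg Subtype.val hn
  simpa [hact] using this

theorem pow_three {y : G} (hy : y ∈ (v : Subgroup G)) : y * (y * y) = 1 := by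
  haveI : Fact (Nat.Prime 3) := ⟨by norm_num⟩
  by_cases hy1 : y = 1
  · simp [hy1]
  obtain ⟨a, ha⟩ := exists_prime_orderOf_dvd_card' 3 (show 3 ∣ Nat.card (v : Subgroup G) by rw [card_P hG]; norm_num)
  rw [← Subgroup.orderOf_coe] at ha
  obtain ⟨n, -, hn⟩ := (point_facts hG a.2 (ne_one_of_orderOf ha (by norm_num))).2 y hy hy1
  have h : orderOf y = 3 := by rw [← hn, orderOf_conj, ha]
  rw [show y * (y * y) = y ^ 3 by rw [pow_succ', pow_two], ← h]
  exact pow_orderOf_eq_one y

theorem orderOf_three {y : G} (hy : y ∈ (v : Subgroup G)) (hy1 : y ≠ 1) : orderOf y = 3 := by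
  haveI : Fact (Nat.Prime 3) := ⟨by norm_num⟩
  refine orderOf_eq_prime ?_ hy1
  rw [pow_succ', pow_two]
  exact pow_three hG hy

theorem eq_one_of_self_inverse {y : G} (hy : y ∈ (v : Subgroup G)) (h : y = y⁻¹) : y = 1 := by
  have h3 := pow_three hG hy
  nth_rw 2 [h] at h3
  rw [inv_mul_cancel, mul_one] at h3
  exact h3

theorem mem_of_order_three {g : G} (hg : orderOf g = 3) (hv : g • v = v) : g ∈ (v : Subgroup G) := by
  haveI : Fact (Nat.Prime 3) := ⟨by norm_num⟩
  have hpg : IsPGroup 3 (Subgroup.zpowers g) := IsPGroup.of_card (n := 1) (by rw [Nat.card_zpowers, hg, pow_one])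
  have : g ∈ Subgroup.zpowers g ⊓ Subgroup.normalizer ((v : Subgroup G) : Set G) :=
    ⟨Subgroup.mem_zpowers g, Sylow.smul_eq_iff_mem_normalizer.1 hv⟩
  exact ((hpg.inf_normalizer_sylow v).le this).2

theorem fix_of_mem {g : G} (hg : g ∈ (v : Subgroup G)) : g • v = v :=
  Sylow.smul_eq_iff_mem_normalizer.2 (Subgroup.le_normalizer hg)

theorem mem_of_centralizes {g : G} (h : ∀ x ∈ (v : Subgroup G), g * x * g⁻¹ = x) : g ∈ (v : Subgroup G) := by
  rw [← centralizer_P_eq hG (P := v)]
  exact Subgroup.mem_centralizer_iff.2 fun x hx => (mul_inv_eq_iff_eq_mul.1 (h x hx)).symm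

theorem orderOf_two_notMem {t : G} (ht : orderOf t = 2) : t ∉ (v : Subgroup G) := fun h => by
  have := orderOf_three hG h (ne_one_of_orderOf ht (by norm_num))
  omega

/-- A central involution of a Sylow subgroup for two of the normaliser inverts. -/
theorem inv_of_central {S : Subgroup G} (hS : S ≤ Subgroup.normalizer ((v : Subgroup G) : Set G))
    (hc : Nat.card S = 16) {z : G} (hzS : z ∈ S) (hz : orderOf z = 2) (hcen : ∀ s ∈ S, s * z = z * s) :
    Inv v z := by
  classical
  set N := Subgroup.normalizer ((v : Subgroup G) : Set G)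
  have hzN : ∀ x ∈ (v : Subgroup G), z * x * z⁻¹ ∈ (v : Subgroup G) := fun x hx =>
    (Subgroup.mem_normalizer_iff.1 (hS hzS) x).1 hx
  have hzz := mul_self_of_orderOf_two hz
  have hzi := inv_of_orderOf_two hz
  refine ⟨hz, fun x hx => ?_⟩
  by_contra hne
  -- the fixed element
  set a := x * (z * x * z⁻¹) with ha
  have hav : a ∈ (v : Subgroup G) := mul_mem hx (hzN x hx)
  have hza : z * a * z⁻¹ = a := by
    rw [ha, hzi]
    calc z * (x * (z * x * z)) * z = (z * x * z) * x * (z * z) := by group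
      _ = (z * x * z⁻¹) * x := by rw [hzz, hzi, mul_one]
      _ = x * (z * x * z⁻¹) := P_comm hG (hzN x hx) hx
      _ = x * (z * x * z) := by rw [hzi]
  have ha1 : a ≠ 1 := fun h => hne (by rw [ha] at h; exact eq_inv_of_mul_eq_one_right h)
  -- the normaliser is the product
  let f : ↥(v : Subgroup G) × ↥S → N := fun q =>
    ⟨(q.1 : G) * (q.2 : G), mul_mem (Subgroup.le_normalizer q.1.2) (hS q.2.2)⟩
  have hf : Function.Injective f := by
    rintro ⟨p, s⟩ ⟨p', s'⟩ h
    have h' : (p : G) * s = p' * s' := congrArg Subtype.val h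
    have hm : (p' : G)⁻¹ * p = s' * (s : G)⁻¹ := by
      rw [inv_mul_eq_iff_eq_mul, ← mul_assoc, eq_mul_inv_iff_mul_eq]; exact h'
    have h1 : orderOf ((p' : G)⁻¹ * p) ∣ 9 := card_P hG ▸ Subgroup.orderOf_dvd_natCard _ (mul_mem (inv_mem p'.2) p.2)
    have h2 : orderOf ((p' : G)⁻¹ * p) ∣ 16 := by
      rw [hm, ← hc]; exact Subgroup.orderOf_dvd_natCard _ (mul_mem s'.2 (inv_mem s.2))
    have h3 := orderOf_eq_one_iff.1 (Nat.eq_one_of_dvd_coprimes (by norm_num : Nat.Coprime 9 16) h1 h2)
    rw [inv_mul_eq_one] at h3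
    rw [h3, mul_right_inj] at h'
    exact Prod.ext (Subtype.ext h3.symm) (Subtype.ext h')
  have hbij : Function.Bijective f := (Fintype.bijective_iff_injective_and_card f).2 ⟨hf, by
    rw [Fintype.card_prod, ← Nat.card_eq_fintype_card, ← Nat.card_eq_fintype_card, ← Nat.card_eq_fintype_card,
      card_P hG, hc, card_normalizer hG]⟩
  refine orderOf_two_notMem hG hz (mem_of_centralizes hG (v := v) fun y hy => ?_)
  by_cases hy1 : y = 1
  · simp [hy1]
  obtain ⟨n, hn, rfl⟩ := (point_facts hG hav ha1).2 y hy hy1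
  obtain ⟨⟨p, s⟩, hps⟩ := hbij.2 ⟨n, hn⟩
  have hn' : n = p * s := (congrArg Subtype.val hps).symm
  have hsa : (s : G) * a * (s : G)⁻¹ ∈ (v : Subgroup G) := (Subgroup.mem_normalizer_iff.1 (hS s.2) a).1 hav
  have e : n * a * n⁻¹ = (s : G) * a * (s : G)⁻¹ := by
    rw [hn']
    calc (p : G) * s * a * ((p : G) * s)⁻¹ = p * (s * a * (s : G)⁻¹) * (p : G)⁻¹ := by group
      _ = (s : G) * a * (s : G)⁻¹ := by rw [P_comm hG p.2 hsa]; group
  rw [e]
  calc z * ((s : G) * a * (s : G)⁻¹) * z⁻¹ = (z * s) * a * (z * s)⁻¹ := by group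
    _ = ((s : G) * z) * a * ((s : G) * z)⁻¹ := by rw [hcen s s.2]
    _ = (s : G) * (z * a * z⁻¹) * (s : G)⁻¹ := by group
    _ = (s : G) * a * (s : G)⁻¹ := by rw [hza]

/-- Some involution inverts the Sylow subgroup. -/
theorem exists_inv : ∃ z, Inv v z := by
  haveI : Fact (Nat.Prime 2) := ⟨Nat.prime_two⟩
  set N := Subgroup.normalizer ((v : Subgroup G) : Set G)
  obtain ⟨S', hS'⟩ := Sylow.exists_subgroup_card_pow_prime 2 (G := N) (n := 4)
    (by rw [card_normalizer hG]; norm_num)
  let S := S'.map N.subtype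
  have hS : Nat.card S = 16 := (Subgroup.card_map_of_injective N.subtype_injective).trans hS'
  haveI : Nontrivial S := Finite.one_lt_card_iff_nontrivial.1 (by rw [hS]; norm_num)
  have hSp : IsPGroup 2 S := IsPGroup.of_card (n := 4) hS
  haveI := hSp.center_nontrivial
  obtain ⟨n, hn, hcard⟩ := (hSp.to_subgroup (Subgroup.center S)).nontrivial_iff_card.1 inferInstance
  obtain ⟨t, ht⟩ := exists_prime_orderOf_dvd_card' 2 (show 2 ∣ Nat.card (Subgroup.center S) by
    rw [hcard]; exact dvd_pow_self 2 hn.ne')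
  refine ⟨((t : S) : G), inv_of_central hG (Subgroup.map_subtype_le _) hS (t : S).2 ?_ fun s hs => ?_⟩
  · rw [Subgroup.orderOf_coe, Subgroup.orderOf_coe, ht]
  · exact congrArg Subtype.val (Subgroup.mem_center_iff.1 t.2 ⟨s, hs⟩)

theorem inv_mul_mem {a b : G} (ha : Inv v a) (hb : Inv v b) : a * b ∈ (v : Subgroup G) := by
  refine mem_of_centralizes hG fun x hx => ?_
  calc a * b * x * (a * b)⁻¹ = a * (b * x * b⁻¹) * a⁻¹ := by group
    _ = x := by rw [hb.2 x hx, ha.2 _ (inv_mem hx), inv_inv]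

theorem inv_mul {z p : G} (hz : Inv v z) (hp : p ∈ (v : Subgroup G)) : Inv v (z * p) := by
  have hzi := inv_of_orderOf_two hz.1
  refine ⟨orderOf_two_of ?_ fun h => orderOf_two_notMem hG hz.1 (v := v) ?_, fun x hx => ?_⟩
  · calc z * p * (z * p) = (z * p * z) * p := by group
      _ = 1 := by
        have := hz.2 p hp
        rw [hzi] at this
        rw [this, inv_mul_cancel]
  · rw [eq_inv_of_mul_eq_one_left h]; exact inv_mem hp
  · calc z * p * x * (z * p)⁻¹ = z * (p * x * p⁻¹) * z⁻¹ := by group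
      _ = z * x * z⁻¹ := by rw [P_comm hG hp hx]; group
      _ = x⁻¹ := hz.2 x hx

theorem inv_conj {z z' : G} (hz : Inv v z) (hz' : Inv v z') :
    ∃ p ∈ (v : Subgroup G), p * z * p⁻¹ = z' := by
  have hq := inv_mul_mem hG hz hz'
  refine ⟨z * z', hq, ?_⟩
  have e := hz.2 _ hq
  have h3 := pow_three hG hq
  have hzi := inv_of_orderOf_two hz.1
  have hzz := mul_self_of_orderOf_two hz.1
  rw [hzi] at e
  calc (z * z') * z * (z * z')⁻¹ = z * (z * (z * z') * z) * (z * z')⁻¹ := by
        rw [show z * (z * (z * z') * z) = (z * z) * (z * z') * z by group, hzz, one_mul]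
    _ = z * ((z * z')⁻¹ * (z * z')⁻¹) := by rw [e]; group
    _ = z * (z * z') := by
        congr 1
        rw [← mul_inv_rev]
        exact inv_eq_of_mul_eq_one_left h3
    _ = z' := by rw [← mul_assoc, hzz, one_mul]

theorem inv_comm_eq {a b : G} (ha : Inv v a) (hb : Inv v b) (h : a * b = b * a) : a = b := by
  have hq := inv_mul_mem hG ha hb
  have e := ha.2 _ hq
  rw [show a * (a * b) * a⁻¹ = a * (a * b * a⁻¹) by group, show a * b * a⁻¹ = b by rw [h]; group] at e
  have h1 := eq_one_of_self_inverse hG hq e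
  rw [← inv_of_orderOf_two ha.1]
  exact inv_eq_of_mul_eq_one_right h1

theorem card_inv : Nat.card {t : G // Inv v t} = 9 := by
  obtain ⟨z, hz⟩ := exists_inv hG (v := v)
  rw [← card_P hG (P := v)]
  exact Nat.card_congr
    { toFun := fun t => ⟨z * t.1, inv_mul_mem hG hz t.2⟩
      invFun := fun p => ⟨z * p.1, inv_mul hG hz p.2⟩
      left_inv := fun t => Subtype.ext (by simp [← mul_assoc, mul_self_of_orderOf_two hz.1])
      right_inv := fun p => Subtype.ext (by simp [← mul_assoc, mul_self_of_orderOf_two hz.1]) }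

/-- A normalising involution which does not invert has a fixed element. -/
theorem exists_fixed {t : G} (ht : orderOf t = 2) (hv : t • v = v) (hn : ¬ Inv v t) :
    ∃ y ∈ (v : Subgroup G), y ≠ 1 ∧ t * y = y * t := by
  have htt := mul_self_of_orderOf_two ht
  have hti := inv_of_orderOf_two ht
  simp only [Inv, ht, true_and, not_forall] at hn
  obtain ⟨x, hx, hne⟩ := hn
  have htx := conj_mem_of_fix hv hx
  refine ⟨x * (t * x * t⁻¹), mul_mem hx htx, fun h => hne (eq_inv_of_mul_eq_one_right h), ?_⟩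
  rw [hti] at htx ⊢
  calc t * (x * (t * x * t)) = (t * x * t) * x * t := by group
    _ = x * (t * x * t) * t := by rw [P_comm hG htx hx]

end Cfsg.Agent.M11Uniq
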